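import Mathlib.Algebra.MonoidAlgebra.Basic
import Mathlib.Algebra.Algebra.Bilinear
import Mathlib.GroupTheory.Coset.Basic
import Cfsg.Agent.FGS76.Unipotent

/-!
# Dimensions of projective modules of group algebras

For an idempotent `f` of a group algebra in characteristic `p`, the order of a `p`-subgroup
divides the dimension of the left ideal generated by `f`.
-/

set_option autoImplicit false

namespace Cfsg.Agent.BlockAlg8

open MonoidAlgebra

variable {K G : Type*} [Field K] [Group G] [Fintype G] {p : ℕ} [Fact p.Prime] [CharP K p]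

/-- A fixed vector of left multiplication by a subgroup is a norm. -/
theorem exists_norm_eq (P : Subgroup G) [Fintype P] {v : MonoidAlgebra K G}
    (hv : ∀ u : P, single (u : G) (1 : K) * v = v) :
    ∃ w, v = (∑ u : P, single (u : G) (1 : K)) * w := by
  classical
  let r : G → G := fun x => (Quotient.mk (QuotientGroup.rightRel P) x).out
  have hr : ∀ x, x * (r x)⁻¹ ∈ P := fun x =>
    QuotientGroup.rightRel_apply.mp (Quotient.mk_out (s := QuotientGroup.rightRel P) x)
  have hru : ∀ (u : P) (x : G), r ((u : G) * x) = r x := fun u x => by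
    have h : Quotient.mk (QuotientGroup.rightRel P) ((u : G) * x) =
        Quotient.mk (QuotientGroup.rightRel P) x :=
      Quotient.sound (QuotientGroup.rightRel_apply.mpr (by simp))
    simp only [r, h]
  have hrr : ∀ x, r (r x) = r x := fun x => by
    simpa using (hru ⟨x * (r x)⁻¹, hr x⟩ (r x)).symm
  refine ⟨∑ g ∈ Finset.univ.filter (fun g => r g = g), single g (v.coeff g), ?_⟩
  apply MonoidAlgebra.ext
  refine Finsupp.ext fun x => ?_
  rw [Finset.sum_mul, coeff_sum, Finsupp.finsetSum_apply, Finset.sum_eq_single ⟨x * (r x)⁻¹, hr x⟩]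
  · rw [coeff_single_mul_apply, one_mul, coeff_sum, Finsupp.finsetSum_apply,
      Finset.sum_eq_single (r x)]
    · rw [coeff_single, show (x * (r x)⁻¹)⁻¹ * x = r x by group, Finsupp.single_eq_same]
      have := congrArg (fun a => a.coeff x) (hv ⟨x * (r x)⁻¹, hr x⟩)
      simp only [coeff_single_mul_apply, one_mul, show (x * (r x)⁻¹)⁻¹ * x = r x by group] at this
      exact this.symm
    · intro g _ hne
      rw [coeff_single, show (x * (r x)⁻¹)⁻¹ * x = r x by group, Finsupp.single_eq_of_ne hne.symm]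
    · intro h
      exact absurd (by simp [hrr]) h
  · intro u _ hu
    rw [coeff_single_mul_apply, one_mul, coeff_sum, Finsupp.finsetSum_apply]
    refine Finset.sum_eq_zero fun g hg => ?_
    rw [coeff_single, Finsupp.single_eq_of_ne]
    rintro rfl
    refine hu (Subtype.ext ?_)
    have h1 : r ((u : G)⁻¹ * x) = r x := hru u⁻¹ x
    rw [(Finset.mem_filter.mp hg).2] at h1
    show (u : G) = x * (r x)⁻¹
    rw [← h1]
    group
  · exact fun h => absurd (Finset.mem_univ _) h

/-- A nonzero subspace invariant under a `p`-group has a nonzero fixed vector. -/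
theorem exists_fixed_mem {V : Type*} [AddCommGroup V] [Module K V] {P : Type*} [Group P] [Finite P]
    (hP : IsPGroup p P) (ρ : P →* (V ≃ₗ[K] V)) (W : Submodule K V)
    (hW : ∀ g, ∀ x ∈ W, ρ g x ∈ W) (hne : W ≠ ⊥) :
    ∃ w ∈ W, w ≠ 0 ∧ ∀ g, ρ g w = w := by
  obtain ⟨x, hx, hx0⟩ := W.exists_mem_ne_zero_of_ne_bot hne
  let σ : P →* (W ≃ₗ[K] W) :=
    { toFun := fun g => LinearEquiv.ofLinearMap ((ρ g).toLinearMap.restrict (hW g))
        ((ρ g⁻¹).toLinearMap.restrict (hW g⁻¹))
        (LinearMap.ext fun y => Subtype.ext (by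
          show ρ g (ρ g⁻¹ y) = y
          rw [← LinearEquiv.mul_apply, ← map_mul, mul_inv_cancel, map_one]; rfl))
        (LinearMap.ext fun y => Subtype.ext (by
          show ρ g⁻¹ (ρ g y) = y
          rw [← LinearEquiv.mul_apply, ← map_mul, inv_mul_cancel, map_one]; rfl))
      map_one' := LinearEquiv.ext fun y => Subtype.ext (by
        show ρ 1 (y : V) = y
        rw [map_one]; rfl)
      map_mul' := fun g h => LinearEquiv.ext fun y => Subtype.ext (by
        show ρ (g * h) (y : V) = ρ g (ρ h y)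
        rw [map_mul]; rfl) }
  obtain ⟨w, hw, hfix⟩ := FGS76.Unipotent.exists_fixed_vector hP σ ⊤
    (v := (⟨x, hx⟩ : W)) (fun h => hx0 (congrArg Subtype.val h))
  exact ⟨w, w.2, fun h => hw (Subtype.ext h),
    fun g => congrArg Subtype.val (hfix g (Subgroup.mem_top g))⟩

/-- The order of a `p`-subgroup divides the dimension of a projective left ideal. -/
theorem card_dvd_finrank_mulRight (P : Subgroup G) (hP : IsPGroup p P) (f : MonoidAlgebra K G)
    (hf : f * f = f) :
    Nat.card P ∣ Module.finrank K (LinearMap.range (LinearMap.mulRight K f)) := by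
  classical
  have : Fintype P := Fintype.ofFinite P
  set W := LinearMap.range (LinearMap.mulRight K f) with hW
  have hWf : ∀ x ∈ W, x * f = x := by
    rintro _ ⟨z, rfl⟩
    simp [mul_assoc, hf]
  set N : MonoidAlgebra K G := ∑ u : P, single (u : G) (1 : K) with hN
  have hNu : ∀ u : P, single (u : G) (1 : K) * N = N := fun u => by
    rw [hN, Finset.mul_sum]
    exact Fintype.sum_equiv (Equiv.mulLeft u) _ _ fun v => by
      simp [single_mul_single]
  let Fx : Submodule K (MonoidAlgebra K G) :=
    W ⊓ ⨅ u : P, LinearMap.ker (LinearMap.mulLeft K (single (u : G) (1 : K)) - LinearMap.id)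
  have hFx : ∀ x, x ∈ Fx ↔ x ∈ W ∧ ∀ u : P, single (u : G) (1 : K) * x = x := fun x => by
    simp [Fx, sub_eq_zero]
  obtain ⟨s, b⟩ : ∃ s, Nonempty (Module.Basis (Fin s) K Fx) := ⟨_, ⟨Module.finBasis K Fx⟩⟩
  obtain ⟨b⟩ := b
  have hpre : ∀ i, ∃ x ∈ W, N * x = (b i : MonoidAlgebra K G) := by
    intro i
    obtain ⟨h1, h2⟩ := (hFx _).mp (b i).2
    obtain ⟨w, hw⟩ := exists_norm_eq P h2
    refine ⟨w * f, ⟨w, rfl⟩, ?_⟩
    rw [← mul_assoc, ← hw, hWf _ h1]
  choose x hxW hxN using hpre
  let Ψ : (P × Fin s → K) →ₗ[K] MonoidAlgebra K G :=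
    Fintype.linearCombination K fun q => single (q.1 : G) (1 : K) * x q.2
  have hΨ : ∀ t, Ψ t = ∑ q, t q • (single (q.1 : G) (1 : K) * x q.2) := fun t => rfl
  let ρ : P →* ((P × Fin s → K) ≃ₗ[K] (P × Fin s → K)) :=
    { toFun := fun g => LinearEquiv.funCongrLeft K K
        ((Equiv.mulLeft g⁻¹).prodCongr (Equiv.refl (Fin s)))
      map_one' := by ext; simp
      map_mul' := fun g h => by ext; simp [mul_assoc, Prod.map] }
  have hρ : ∀ g t q, ρ g t q = t (g⁻¹ * q.1, q.2) := fun g t q => rfl
  have hΨρ : ∀ g t, Ψ (ρ g t) = single (g : G) (1 : K) * Ψ t := by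
    intro g t
    rw [hΨ, hΨ, Finset.mul_sum]
    refine Fintype.sum_equiv ((Equiv.mulLeft g⁻¹).prodCongr (Equiv.refl (Fin s))) _ _ fun q => ?_
    rw [hρ, mul_smul_comm, ← mul_assoc, single_mul_single]
    simp [Prod.map]
  have hinj : Function.Injective Ψ := by
    rw [← LinearMap.ker_eq_bot]
    by_contra hne
    obtain ⟨t, ht, ht0, hfix⟩ := exists_fixed_mem (p := p) hP ρ (LinearMap.ker Ψ)
      (fun g t ht => by rw [LinearMap.mem_ker] at ht ⊢; rw [hΨρ, ht, mul_zero]) hne
    have hconst : ∀ q, t q = t (1, q.2) := fun q => by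
      have := congrFun (hfix q.1) q
      rw [hρ, inv_mul_cancel] at this
      exact this.symm
    have h0 : ∑ i, t (1, i) • b i = 0 := by
      apply Subtype.ext
      rw [Submodule.coe_sum, Submodule.coe_zero, ← LinearMap.mem_ker.mp ht, hΨ,
        Fintype.sum_prod_type_right]
      refine Finset.sum_congr rfl fun i _ => ?_
      rw [Submodule.coe_smul, ← hxN, hN, Finset.sum_mul, Finset.smul_sum]
      exact Finset.sum_congr rfl fun u _ => by rw [hconst (u, i)]
    refine ht0 (funext fun q => ?_)
    rw [hconst q, Fintype.linearIndependent_iff.mp b.linearIndependent _ h0 q.2]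
    rfl
  have hle : LinearMap.range Ψ ≤ W := by
    rintro _ ⟨t, rfl⟩
    rw [hΨ]
    refine Submodule.sum_mem _ fun q _ => Submodule.smul_mem _ _ ⟨single (q.1 : G) 1 * x q.2, ?_⟩
    rw [LinearMap.mulRight_apply, mul_assoc, hWf _ (hxW _)]
  -- the retraction
  obtain ⟨φ, hφ⟩ : ∃ φ : Fin s → MonoidAlgebra K G →ₗ[K] K,
      ∀ i j, φ i (b j : MonoidAlgebra K G) = if j = i then 1 else 0 := by
    have : ∀ i, ∃ φ : MonoidAlgebra K G →ₗ[K] K, φ.comp Fx.subtype = b.coord i := fun i =>
      (b.coord i).exists_extend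
    choose φ hφ using this
    refine ⟨φ, fun i j => ?_⟩
    rw [show φ i (b j : MonoidAlgebra K G) = (φ i).comp Fx.subtype (b j) from rfl, hφ,
      Module.Basis.coord_apply, Module.Basis.repr_self, Finsupp.single_apply]
  let Φ : W →ₗ[K] (P × Fin s → K) :=
    LinearMap.pi fun q => ((φ q.2).comp
      (LinearMap.mulLeft K (single ((q.1 : G)⁻¹) (1 : K)))).comp W.subtype
  have hΦ : ∀ (z : W) q, Φ z q = φ q.2 (single ((q.1 : G)⁻¹) (1 : K) * (z : MonoidAlgebra K G)) :=
    fun z q => rfl
  have hinj' : Function.Injective Φ := by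
    rw [← LinearMap.ker_eq_bot]
    by_contra hne
    let σ : P →* (MonoidAlgebra K G ≃ₗ[K] MonoidAlgebra K G) :=
      { toFun := fun g => LinearEquiv.ofLinearMap (LinearMap.mulLeft K (single (g : G) (1 : K)))
          (LinearMap.mulLeft K (single ((g : G)⁻¹) (1 : K)))
          (by ext z; simp [← mul_assoc, single_mul_single])
          (by ext z; simp [← mul_assoc, single_mul_single])
        map_one' := by ext z; simp [← MonoidAlgebra.one_def]
        map_mul' := fun g h => by ext z; simp [← mul_assoc, single_mul_single] }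
    obtain ⟨z, hz, hz0, hfix⟩ := exists_fixed_mem (p := p) hP σ ((LinearMap.ker Φ).map W.subtype)
      (fun g z hz => by
        obtain ⟨y, hy, rfl⟩ := hz
        obtain ⟨w, hw⟩ := y.2
        refine ⟨⟨single (g : G) (1 : K) * (y : MonoidAlgebra K G),
          ⟨single (g : G) 1 * w, by rw [LinearMap.mulRight_apply, mul_assoc]; exact congrArg _ hw⟩⟩,
          ?_, rfl⟩
        rw [SetLike.mem_coe, LinearMap.mem_ker]
        funext q
        have h1 := congrFun (LinearMap.mem_ker.mp hy) (g⁻¹ * q.1, q.2)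
        rw [hΦ, Pi.zero_apply] at h1
        rw [hΦ, Pi.zero_apply, ← mul_assoc, single_mul_single, one_mul, ← h1]
        simp [mul_inv_rev])
      (fun h => hne (Submodule.map_injective_of_injective W.subtype_injective
        (h.trans (Submodule.map_bot _).symm)))
    obtain ⟨y, hy, rfl⟩ := hz
    have hyF : (y : MonoidAlgebra K G) ∈ Fx := (hFx _).mpr ⟨y.2, fun u => hfix u⟩
    have h0 : ∀ i, b.repr ⟨_, hyF⟩ i = 0 := fun i => by
      have h1 := congrFun (LinearMap.mem_ker.mp hy) (1, i)
      rw [hΦ, Pi.zero_apply, OneMemClass.coe_one, inv_one, ← MonoidAlgebra.one_def, one_mul] at h1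
      have h2 : (y : MonoidAlgebra K G) = ∑ j, b.repr ⟨_, hyF⟩ j • (b j : MonoidAlgebra K G) := by
        have h3 := congrArg Subtype.val (b.sum_repr ⟨_, hyF⟩)
        rw [Submodule.coe_sum] at h3
        exact h3.symm
      rw [h2, map_sum] at h1
      simpa [map_smul, hφ] using h1
    apply hz0
    have := b.repr.map_eq_zero_iff.mp (Finsupp.ext h0)
    exact congrArg Subtype.val this
  have h1 : Fintype.card (P × Fin s) ≤ Module.finrank K W := by
    rw [← Module.finrank_fintype_fun_eq_card K]
    exact (LinearMap.finrank_range_of_inj hinj).symm.le.trans (Submodule.finrank_mono hle)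
  have h2 : Module.finrank K W ≤ Fintype.card (P × Fin s) := by
    rw [← Module.finrank_fintype_fun_eq_card K]
    exact LinearMap.finrank_le_finrank_of_injective hinj'
  rw [le_antisymm h2 h1, Fintype.card_prod, Nat.card_eq_fintype_card]
  exact dvd_mul_right _ _

end Cfsg.Agent.BlockAlg8
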