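import Mathlib.RingTheory.SimpleModule.IsAlgClosed
import Mathlib.RingTheory.Artinian.Module
import Mathlib.RingTheory.Idempotents
import Mathlib.RingTheory.HopkinsLevitzki
import Mathlib.LinearAlgebra.Matrix.Trace

/-!
# Symmetric algebras with two-dimensional trace space

A block of a symmetric algebra which is not semisimple and has at most two independent trace
functionals is the algebra of `n × n` matrices over a two-dimensional local algebra.
-/

set_option autoImplicit false

namespace Cfsg.Agent.BlockAlg8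

variable {K A : Type*} [Field K] [Ring A] [Algebra K A]

variable (K A) in
/-- The span of the additive commutators. -/
def commSpan : Submodule K A := Submodule.span K {z | ∃ a b : A, a * b - b * a = z}

theorem map_comm_zero {μ : A →ₗ[K] K} (h : ∀ a b, μ (a * b) = μ (b * a)) {z : A}
    (hz : z ∈ commSpan K A) : μ z = 0 := by
  refine (Submodule.span_le (p := LinearMap.ker μ)).mpr ?_ hz
  rintro _ ⟨a, b, rfl⟩
  rw [SetLike.mem_coe, LinearMap.mem_ker, map_sub, h, sub_self]

theorem scalar_of_central {n : Type*} [Fintype n] [DecidableEq n] {E : Matrix n n K}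
    (hc : ∀ x, E * x = x * E) (hi : E * E = E) : E = 0 ∨ E = 1 := by
  obtain ⟨c, hc'⟩ := Matrix.mem_range_scalar_of_commute_single (M := E)
    fun i j _ => (hc (Matrix.single i j 1)).symm
  rcases isEmpty_or_nonempty n with h | h
  · exact Or.inl (Subsingleton.elim _ _)
  obtain ⟨i⟩ := h
  have hcc : c * c = c := by
    have := congrFun (congrFun hi i) i
    rw [← hc', ← map_mul] at this
    simpa using this
  rcases mul_eq_zero.mp (show c * (c - 1) = 0 by rw [mul_sub, hcc, mul_one, sub_self]) with hcz | hc1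
  · exact Or.inl (by rw [← hc', hcz, map_zero])
  · exact Or.inr (by rw [← hc', sub_eq_zero.mp hc1, map_one])

theorem exists_jacobson_pow [IsArtinianRing A] : ∃ N, Ring.jacobson A ^ N = ⊥ :=
  IsSemiprimaryRing.isNilpotent

section Quotient

variable [FiniteDimensional K A]

variable [IsAlgClosed K]

theorem exists_pi : ∃ (r : ℕ) (d : Fin r → ℕ)
    (π₀ : A →ₐ[K] (i : Fin r) → Matrix (Fin (d i)) (Fin (d i)) K),
    (∀ i, NeZero (d i)) ∧ Function.Surjective π₀ ∧ ∀ x, π₀ x = 0 ↔ x ∈ Ring.jacobson A := by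
  have : IsArtinianRing A := IsArtinianRing.of_finite K A
  obtain ⟨r, d, hd, ⟨φ⟩⟩ :=
    IsSemisimpleRing.exists_algEquiv_pi_matrix_of_isAlgClosed K (A ⧸ Ring.jacobson A)
  refine ⟨r, d, (φ : (A ⧸ Ring.jacobson A) →ₐ[K] _).comp (Ideal.Quotient.mkₐ K (Ring.jacobson A)),
    hd, fun y => ?_, fun x => ?_⟩
  · obtain ⟨x, hx⟩ := Ideal.Quotient.mk_surjective (φ.symm y)
    exact ⟨x, by simp [hx]⟩
  · simp [Ideal.Quotient.eq_zero_iff_mem]

/-- The matrix component of the block, and the trace space. -/
theorem exists_proj (e : A) (he : e * e = e) (hc : ∀ a, e * a = a * e) (he0 : e ≠ 0)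
    (lam : A →ₗ[K] K) (hsym : ∀ a b, lam (a * b) = lam (b * a))
    (hnd : ∀ x, (∀ y, lam (x * y) = 0) → x = 0) (T : A →ₗ[K] Fin 2 → K)
    (hT : ∀ x, e * x = x → T x = 0 → x ∈ commSpan K A)
    (hns : ∃ j ∈ Ring.jacobson A, e * j ≠ 0) :
    ∃ (n : ℕ) (π : A →ₐ[K] Matrix (Fin n) (Fin n) K), 0 < n ∧ Function.Surjective π ∧ π e = 1 ∧
      (∀ z ∈ Ring.jacobson A, π z = 0) ∧ (∀ z, e * z = z → π z = 0 → z ∈ Ring.jacobson A) ∧
      (∀ z, e * z = z → lam z = 0 → π z = 0 → z ∈ commSpan K A) ∧
      ∃ j₀ ∈ Ring.jacobson A, e * j₀ = j₀ ∧ lam j₀ ≠ 0 := by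
  classical
  set J := Ring.jacobson A with hJ
  have : IsArtinianRing A := IsArtinianRing.of_finite K A
  obtain ⟨NJ, hNJ⟩ := exists_jacobson_pow (A := A)
  have hJnil : ∀ x ∈ J, x ^ NJ = 0 := fun x hx => by
    have h := Ideal.pow_mem_pow hx NJ
    rwa [hJ, hNJ, Ideal.mem_bot] at h
  obtain ⟨r, d, π₀, hd, hπsurj, hπker⟩ := exists_pi (K := K) (A := A)
  have hε : ∀ i, π₀ e i = 0 ∨ π₀ e i = 1 := by
    intro i
    refine scalar_of_central (fun x => ?_) ?_
    · obtain ⟨a, ha⟩ := hπsurj (Pi.single i x)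
      have h := congrArg (fun z => π₀ z i) (hc a)
      simpa [ha] using h
    · simpa using congrArg (fun z => π₀ z i) he
  obtain ⟨i, hi⟩ : ∃ i, π₀ e i = 1 := by
    by_contra h
    push Not at h
    have hJe : e ∈ J := (hπker e).mp (funext fun i => (hε i).resolve_right (h i))
    have hpow : ∀ k, e ^ (k + 1) = e := fun k => by
      induction k with
      | zero => rw [pow_one]
      | succ k ih => rw [pow_succ, ih, he]
    exact he0 (by rw [← hpow NJ, pow_succ, hJnil e hJe, zero_mul])
  have := hd i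
  -- the traces
  set tr : Fin r → A →ₗ[K] K := fun k =>
    (Matrix.traceLinearMap (Fin (d k)) K K).comp ((LinearMap.proj k).comp π₀.toLinearMap) with htr
  have htrsym : ∀ k a b, tr k (a * b) = tr k (b * a) := fun k a b => by
    simp only [htr, LinearMap.comp_apply, AlgHom.toLinearMap_apply, map_mul, LinearMap.proj_apply,
      Pi.mul_apply, Matrix.traceLinearMap_apply]
    exact Matrix.trace_mul_comm _ _
  obtain ⟨j, hjJ, hj⟩ := hns
  obtain ⟨y, hy⟩ : ∃ y, lam (e * j * y) ≠ 0 := by
    by_contra h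
    push Not at h
    exact hj (hnd _ h)
  set j₀ := e * j * y with hj₀
  have hj₀J : j₀ ∈ J := J.mul_mem_right _ (J.mul_mem_left _ hjJ)
  have hej₀ : e * j₀ = j₀ := by rw [hj₀, ← mul_assoc, ← mul_assoc, he]
  have htrJ : ∀ k, ∀ z ∈ J, tr k z = 0 := fun k z hz => by
    simp [htr, (hπker z).mpr hz]
  -- elements with prescribed traces
  have hpre : ∀ k, π₀ e k = 1 → ∃ a, e * a = a ∧ tr k a = 1 ∧ ∀ k', k' ≠ k → tr k' a = 0 := by
    intro k hk
    have := hd k
    obtain ⟨a, ha⟩ := hπsurj (Pi.single k (Matrix.single 0 0 1))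
    refine ⟨e * a, by rw [← mul_assoc, he], ?_, fun k' hk' => ?_⟩
    · simp [htr, ha, hk]
    · simp [htr, ha, hk']
  obtain ⟨a₁, ha₁, ha₁i, ha₁o⟩ := hpre i hi
  have hindep : LinearIndependent K ![T j₀, T a₁] := by
    rw [LinearIndependent.pair_iff]
    intro s t hst
    have hz := hT (s • j₀ + t • a₁) (by rw [mul_add, mul_smul_comm, mul_smul_comm, hej₀, ha₁])
      (by rw [map_add, map_smul, map_smul, hst])
    have h1 := map_comm_zero (htrsym i) hz
    rw [map_add, map_smul, map_smul, htrJ i _ hj₀J, ha₁i] at h1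
    have ht : t = 0 := by simpa using h1
    have h2 := map_comm_zero hsym hz
    rw [ht, zero_smul, add_zero, map_smul, smul_eq_mul] at h2
    exact ⟨(mul_eq_zero.mp h2).resolve_right hy, ht⟩
  have hkey : ∀ z, e * z = z → lam z = 0 → tr i z = 0 → z ∈ commSpan K A := by
    intro z hz hlz htz
    have hspan : Submodule.span K (Set.range ![T j₀, T a₁]) = ⊤ :=
      hindep.span_eq_top_of_card_eq_finrank (by simp)
    have hmem : T z ∈ Submodule.span K (Set.range ![T j₀, T a₁]) := hspan ▸ Submodule.mem_top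
    rw [Matrix.range_cons, Matrix.range_cons, Matrix.range_empty, Set.union_empty,
      Set.singleton_union, Submodule.mem_span_pair] at hmem
    obtain ⟨s, t, hst⟩ := hmem
    have hz' := hT (z - (s • j₀ + t • a₁))
      (by rw [mul_sub, mul_add, mul_smul_comm, mul_smul_comm, hej₀, ha₁, hz])
      (by rw [map_sub, map_add, map_smul, map_smul, hst, sub_self])
    have h1 := map_comm_zero (htrsym i) hz'
    rw [map_sub, map_add, map_smul, map_smul, htrJ i _ hj₀J, ha₁i, htz] at h1
    have ht : t = 0 := by simpa using h1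
    have h2 := map_comm_zero hsym hz'
    rw [ht, zero_smul, add_zero, map_sub, map_smul, hlz, zero_sub, neg_eq_zero, smul_eq_mul] at h2
    rwa [ht, zero_smul, add_zero, (mul_eq_zero.mp h2).resolve_right hy, zero_smul, sub_zero] at hz'
  -- the only matrix component
  have honly : ∀ k, k ≠ i → π₀ e k = 0 := by
    intro k hk
    refine (hε k).resolve_right fun hk1 => ?_
    obtain ⟨a₂, ha₂, ha₂k, ha₂o⟩ := hpre k hk1
    set c := lam a₂ / lam j₀
    have hz := hkey (a₂ - c • j₀) (by rw [mul_sub, mul_smul_comm, ha₂, hej₀])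
      (by rw [map_sub, map_smul, smul_eq_mul, div_mul_cancel₀ _ hy, sub_self])
      (by rw [map_sub, map_smul, htrJ i _ hj₀J, ha₂o i hk.symm, smul_zero, sub_zero])
    have h1 := map_comm_zero (htrsym k) hz
    rw [map_sub, map_smul, htrJ k _ hj₀J, ha₂k, smul_zero, sub_zero] at h1
    exact one_ne_zero h1
  set π : A →ₐ[K] Matrix (Fin (d i)) (Fin (d i)) K := (Pi.evalAlgHom K _ i).comp π₀ with hπ
  have hπe : π e = 1 := hi
  have hπtr : ∀ z, tr i z = (π z).trace := fun z => rfl
  have hπJ : ∀ z ∈ J, π z = 0 := fun z hz => by simp [hπ, (hπker z).mpr hz]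
  have hπ0 : ∀ z, e * z = z → π z = 0 → z ∈ J := by
    intro z hz h
    refine (hπker z).mp (funext fun k => ?_)
    by_cases hk : k = i
    · subst hk; exact h
    · rw [← hz, map_mul, Pi.mul_apply, honly k hk, zero_mul, Pi.zero_apply]
  have := hd i
  refine ⟨d i, π, Nat.pos_of_ne_zero (NeZero.ne _), fun X => ?_, hπe, hπJ, hπ0, fun z hz hl hp =>
    hkey z hz hl (by rw [hπtr, hp, Matrix.trace_zero]), j₀, hj₀J, hej₀, hy⟩
  obtain ⟨z, hz⟩ := hπsurj (Pi.single i X)
  exact ⟨z, (congrFun hz i).trans (Pi.single_eq_same _ _)⟩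

end Quotient

section Units

variable {n : ℕ} [NeZero n] (e : A) (π : A →ₐ[K] Matrix (Fin n) (Fin n) K)

/-- Matrix units of the block up to the radical. -/
theorem exists_units [IsArtinianRing A] (he : e * e = e) (hc : ∀ a, e * a = a * e)
    (hπs : Function.Surjective π) (hπe : π e = 1) (hπJ : ∀ z ∈ Ring.jacobson A, π z = 0)
    (hπ0 : ∀ z, e * z = z → π z = 0 → z ∈ Ring.jacobson A) :
    ∃ (f : A) (U V : Fin n → A), f * f = f ∧ e * f = f ∧ π f = Matrix.single 0 0 1 ∧
      (∀ a, π (U a) = Matrix.single a 0 1) ∧ (∀ a, π (V a) = Matrix.single 0 a 1) ∧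
      (∀ a, U a * f = U a) ∧ (∀ a, f * V a = V a) ∧ (∀ a, e * U a = U a) ∧
      (∀ a z, V a * (e * z) = V a * z) ∧ ∑ a, U a * V a = e := by
  classical
  set J := Ring.jacobson A with hJ
  obtain ⟨NJ, hNJ⟩ := exists_jacobson_pow (A := A)
  have hJnil : ∀ x ∈ J, x ^ NJ = 0 := fun x hx => by
    have h := Ideal.pow_mem_pow hx NJ
    rwa [hJ, hNJ, Ideal.mem_bot] at h
  obtain ⟨f₁, hf₁⟩ := hπs (Matrix.single 0 0 1)
  have hx1 : π (e * f₁) = Matrix.single 0 0 1 := by rw [map_mul, hπe, one_mul, hf₁]
  have hxx : e * f₁ * (e * f₁) - e * f₁ ∈ J := hπ0 _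
    (by rw [mul_sub, ← mul_assoc e (e * f₁), ← mul_assoc e e, he])
    (by rw [map_sub, map_mul, hx1, Matrix.single_mul_single_same, one_mul, sub_self])
  obtain ⟨f₀, hf₀, hf₀'⟩ := exists_isIdempotentElem_eq_of_ker_isNilpotent (Ideal.Quotient.mk J)
    (fun x hx => ⟨NJ, hJnil x (Ideal.Quotient.eq_zero_iff_mem.mp (RingHom.mem_ker.mp hx))⟩)
    (Ideal.Quotient.mk J (e * f₁)) (RingHom.mem_range.mpr ⟨_, rfl⟩) (by
      show _ * _ = _
      rw [← map_mul, Ideal.Quotient.eq]
      exact hxx)
  have hf₀π : π f₀ = Matrix.single 0 0 1 := by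
    have h := hπJ _ (Ideal.Quotient.eq.mp hf₀')
    rwa [map_sub, sub_eq_zero, hx1] at h
  set f := e * f₀ with hf
  have hff : f * f = f := by
    rw [hf, mul_assoc, ← mul_assoc f₀, ← hc f₀, mul_assoc e f₀ f₀, hf₀.eq, ← mul_assoc, he]
  have hef : e * f = f := by rw [hf, ← mul_assoc, he]
  have hπf : π f = Matrix.single 0 0 1 := by
    rw [hf, map_mul, hπe, one_mul]
    exact hf₀π
  choose u hu using fun a : Fin n => hπs (Matrix.single a 0 1)
  choose v hv using fun a : Fin n => hπs (Matrix.single 0 a 1)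
  set s := e * ∑ a, u a * f * v a with hs
  have hsum1 : ∑ a : Fin n, Matrix.single a a (1 : K) = 1 := by
    ext x y
    simp [Matrix.sum_apply, Matrix.single_apply, Matrix.one_apply, ite_and, eq_comm]
  have hπsum : π s = 1 := by
    simp only [hs, map_mul, map_sum, hπe, hu, hv, hπf, one_mul, Matrix.single_mul_single_same, hsum1]
  have hes : e * s = s := by rw [hs, ← mul_assoc, he]
  have hdJ : s - e ∈ J := hπ0 _ (by rw [mul_sub, hes, he]) (by rw [map_sub, hπsum, hπe, sub_self])
  obtain ⟨w, hw⟩ : IsUnit (1 + (s - e)) := IsNilpotent.isUnit_one_add ⟨NJ, hJnil _ hdJ⟩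
  set wi : A := ((w⁻¹ : Aˣ) : A)
  have hπwi : π wi = 1 := by
    have h := congrArg π (Units.inv_mul w)
    rwa [map_mul, hw, map_add, map_one, hπJ _ hdJ, add_zero, mul_one] at h
  set U : Fin n → A := fun a => e * wi * u a * f with hU
  set V : Fin n → A := fun a => f * v a with hV
  have hUV : ∑ a, U a * V a = e := by
    have h1 : e * s = e * (1 + (s - e)) := by rw [mul_add, mul_one, mul_sub, hes, he]; abel
    calc ∑ a, U a * V a = e * wi * ∑ a, u a * f * v a := by
          rw [Finset.mul_sum]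
          refine Finset.sum_congr rfl fun a _ => ?_
          simp only [hU, hV, mul_assoc]
          rw [← mul_assoc f f, hff]
      _ = wi * s := by rw [hs, hc wi, mul_assoc]
      _ = wi * (e * (1 + (s - e))) := by rw [← h1, hes]
      _ = e := by rw [hc, ← mul_assoc, ← hw, Units.inv_mul, one_mul]
  have hπU : ∀ a, π (U a) = Matrix.single a 0 1 := fun a => by
    simp only [hU, map_mul, hπe, hπwi, hu, hπf, one_mul, Matrix.single_mul_single_same]
  have hπV : ∀ a, π (V a) = Matrix.single 0 a 1 := fun a => by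
    simp only [hV, map_mul, hv, hπf, Matrix.single_mul_single_same, one_mul]
  have hUf : ∀ a, U a * f = U a := fun a => by simp only [hU, mul_assoc, hff]
  have hfV : ∀ a, f * V a = V a := fun a => by simp only [hV, ← mul_assoc, hff]
  have heU : ∀ a, e * U a = U a := fun a => by simp only [hU, ← mul_assoc, he]
  have hVe : ∀ a z, V a * (e * z) = V a * z := fun a z => by
    rw [← mul_assoc, ← hc (V a)]
    simp only [hV, ← mul_assoc, hef]
  exact ⟨f, U, V, hff, hef, hπf, hπU, hπV, hUf, hfV, heU, hVe, hUV⟩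

/-- The corner at a primitive idempotent is spanned by it and one element of square zero. -/
theorem exists_corner
    [IsArtinianRing A] (lam : A →ₗ[K] K) (hsym : ∀ a b, lam (a * b) = lam (b * a))
    {f : A} {U V : Fin n → A} (hc : ∀ a, e * a = a * e)
    (hπJ : ∀ z ∈ Ring.jacobson A, π z = 0)
    (hπ0 : ∀ z, e * z = z → π z = 0 → z ∈ Ring.jacobson A)
    (hkey : ∀ z, e * z = z → lam z = 0 → π z = 0 → z ∈ commSpan K A)
    {j₀ : A} (hj₀J : j₀ ∈ Ring.jacobson A) (hej₀ : e * j₀ = j₀) (hy : lam j₀ ≠ 0)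
    (hff : f * f = f) (hef : e * f = f) (hπf : π f = Matrix.single 0 0 1)
    (hUf : ∀ a, U a * f = U a) (hfV : ∀ a, f * V a = V a)
    (hVe : ∀ a z, V a * (e * z) = V a * z) (hUV : ∑ a, U a * V a = e) :
    ∃ m : A, m ∈ Ring.jacobson A ∧ m ≠ 0 ∧ f * m = m ∧ m * f = m ∧ m * m = 0 ∧
      ∀ z, f * z = z → z * f = z → ∃ x y : K, z = x • f + y • m := by
  classical
  obtain ⟨NJ, hNJ⟩ := exists_jacobson_pow (A := A)
  have hJnil : ∀ x ∈ Ring.jacobson A, x ^ NJ = 0 := fun x hx => by
    have h := Ideal.pow_mem_pow hx NJ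
    rwa [hNJ, Ideal.mem_bot] at h
  let Cor : Submodule K A := LinearMap.range (LinearMap.mulLeft K f ∘ₗ LinearMap.mulRight K f)
  have hmemCor : ∀ z, f * (z * f) ∈ Cor := fun z => ⟨z, rfl⟩
  have hCor : ∀ {z}, z ∈ Cor → f * z = z ∧ z * f = z ∧ e * z = z := by
    rintro z ⟨t, rfl⟩
    simp only [LinearMap.comp_apply, LinearMap.mulLeft_apply, LinearMap.mulRight_apply]
    exact ⟨by rw [← mul_assoc, hff], by rw [mul_assoc, mul_assoc, hff], by rw [← mul_assoc, hef]⟩
  have hCor' : ∀ z, f * z = z → z * f = z → z ∈ Cor := fun z h1 h2 => ⟨z, by simp [h1, h2]⟩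
  let Jk : Submodule K A := (Ring.jacobson A).restrictScalars K
  let N : Submodule K A := Cor ⊓ Jk
  have hfCor : f ∈ Cor := hCor' f hff hff
  have hdecomp : ∀ z ∈ Cor, ∃ c : K, z - c • f ∈ N := by
    intro z hz
    obtain ⟨h1, h2, h3⟩ := hCor hz
    refine ⟨π z 0 0, Cor.sub_mem hz (Cor.smul_mem _ hfCor), hπ0 _ ?_ ?_⟩
    · rw [mul_sub, mul_smul_comm, h3, hef]
    · have h4 : π z = π f * (π z * π f) := by rw [← map_mul, ← map_mul, h2, h1]
      rw [map_sub, map_smul, sub_eq_zero, hπf]
      rw [hπf] at h4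
      conv_lhs => rw [h4]
      rw [← Matrix.mul_assoc, Matrix.single_mul_mul_single, one_mul, mul_one, Matrix.smul_single,
        smul_eq_mul, mul_one]
  -- the trace from the block to the corner
  let τ : A → A := fun z => ∑ a, V a * z * U a
  have hτCor : ∀ z, τ z ∈ Cor := fun z => hCor' _
    (by simp only [τ, Finset.mul_sum, ← mul_assoc, hfV]) (by simp only [τ, Finset.sum_mul, mul_assoc, hUf])
  let Cf : Submodule K A := Submodule.span K {z | ∃ a ∈ Cor, ∃ b ∈ Cor, a * b - b * a = z}
  have hτcomm : ∀ z ∈ commSpan K A, τ z ∈ Cf := by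
    intro z hz
    induction hz using Submodule.span_induction with
    | mem z hz =>
      obtain ⟨a, b, rfl⟩ := hz
      have key : ∀ x y, τ (x * y) = ∑ k, ∑ l, (V k * x * U l) * (V l * y * U k) := fun x y => by
        refine Finset.sum_congr rfl fun k _ => ?_
        calc V k * (x * y) * U k = V k * x * (∑ l, U l * V l) * y * U k := by
              rw [hUV, mul_assoc (V k) x e, ← hc x, hVe, mul_assoc (V k) x y]
          _ = _ := by simp only [Finset.mul_sum, Finset.sum_mul, mul_assoc]
      have e1 : τ (a * b - b * a) = τ (a * b) - τ (b * a) := by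
        simp only [τ, mul_sub, sub_mul, Finset.sum_sub_distrib]
      rw [e1, key, key, Finset.sum_comm (f := fun k l => V k * b * U l * (V l * a * U k)),
        ← Finset.sum_sub_distrib]
      refine Submodule.sum_mem _ fun k _ => ?_
      rw [← Finset.sum_sub_distrib]
      refine Submodule.sum_mem _ fun l _ => Submodule.subset_span ⟨_, ?_, _, ?_, rfl⟩ <;>
      exact hCor' _ (by simp only [← mul_assoc, hfV]) (by simp only [mul_assoc, hUf])
    | zero => simp [τ]
    | add x y _ _ hx hy => simpa [τ, mul_add, add_mul, Finset.sum_add_distrib] using Cf.add_mem hx hy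
    | smul c x _ hx => simpa [τ, ← Finset.smul_sum] using Cf.smul_mem c hx
  have hτid : ∀ z ∈ Cor, τ z - z ∈ Cf := by
    intro z hz
    obtain ⟨h1, h2, h3⟩ := hCor hz
    have e1 : ∀ a, V a * f * z * (f * U a) = V a * z * U a := fun a => by
      rw [mul_assoc (V a) f z, h1, mul_assoc (V a) z, ← mul_assoc z f, h2, mul_assoc]
    have e2 : z = ∑ a, f * U a * (V a * f * z) := by
      calc z = f * e * f * z := by rw [← hc f, hef, hff, h1]
        _ = _ := by rw [← hUV]; simp only [Finset.mul_sum, Finset.sum_mul, mul_assoc]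
    have e3 : τ z - z = ∑ a, (V a * f * z * (f * U a) - f * U a * (V a * f * z)) := by
      rw [Finset.sum_sub_distrib, ← e2, Finset.sum_congr rfl fun a _ => e1 a]
    rw [e3]
    refine Submodule.sum_mem _ fun a _ => Submodule.subset_span ⟨_, ?_, _, ?_, rfl⟩
    · exact hCor' _ (by simp only [← mul_assoc, hfV]) (by simp only [mul_assoc, h2])
    · exact hCor' _ (by simp only [← mul_assoc, hff]) (by simp only [mul_assoc, hUf])
  have hCfN : Cf ≤ N * N := by
    refine Submodule.span_le.mpr ?_
    rintro _ ⟨a, ha, b, hb, rfl⟩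
    obtain ⟨c, hc1⟩ := hdecomp a ha
    obtain ⟨c', hc2⟩ := hdecomp b hb
    obtain ⟨a1, a2, -⟩ := hCor ha
    obtain ⟨b1, b2, -⟩ := hCor hb
    have : a * b - b * a = (a - c • f) * (b - c' • f) - (b - c' • f) * (a - c • f) := by
      simp only [sub_mul, mul_sub, smul_mul_assoc, mul_smul_comm, hff, a1, a2, b1, b2, smul_sub,
        smul_smul, mul_comm c']
      abel
    rw [SetLike.mem_coe, this]
    exact Submodule.sub_mem _ (Submodule.mul_mem_mul hc1 hc2) (Submodule.mul_mem_mul hc2 hc1)
  -- the generator of the radical of the corner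
  set m := τ j₀ with hm
  have hmN : m ∈ N := ⟨hτCor _, Submodule.sum_mem _ fun a _ =>
    (Ring.jacobson A).mul_mem_right _ ((Ring.jacobson A).mul_mem_left _ hj₀J)⟩
  have hlm : lam m ≠ 0 := by
    have e1 : lam m = lam j₀ := by
      simp only [hm, τ, map_sum]
      calc ∑ a, lam (V a * j₀ * U a) = ∑ a, lam (U a * V a * j₀) := by
            exact Finset.sum_congr rfl fun a _ => by rw [hsym, mul_assoc]
        _ = lam j₀ := by rw [← map_sum, ← Finset.sum_mul, hUV, hej₀]
    rw [e1]
    exact hy
  have hNC : ∀ z ∈ N, z - (lam z / lam m) • m ∈ Cf := by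
    intro z hz
    set z' := z - (lam z / lam m) • m
    have hz' : z' ∈ N := N.sub_mem hz (N.smul_mem _ hmN)
    have h1 := hkey z' (hCor hz'.1).2.2
      (by rw [map_sub, map_smul, smul_eq_mul, div_mul_cancel₀ _ hlm, sub_self])
      (hπJ _ hz'.2)
    have h2 := Cf.sub_mem (hτcomm _ h1) (hτid _ hz'.1)
    rwa [sub_sub_cancel] at h2
  have hNN : N * N ≤ N := Submodule.mul_le.mpr fun a ha b hb =>
    ⟨hCor' _ (by rw [← mul_assoc, (hCor ha.1).1]) (by rw [mul_assoc, (hCor hb.1).2.1]),
      (Ring.jacobson A).mul_mem_left a hb.2⟩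
  have hpowN : ∀ k, N ^ (k + 1) ≤ N := fun k => by
    induction k with
    | zero => rw [pow_one]
    | succ k ih => rw [pow_succ]; exact le_trans (mul_le_mul' ih le_rfl) hNN
  let P : Submodule K A := Submodule.span K {z | ∃ k : ℕ, m ^ (k + 1) = z}
  have hPN : P ≤ N := Submodule.span_le.mpr (by
    rintro _ ⟨k, rfl⟩
    exact hpowN k (Submodule.pow_mem_pow N hmN _))
  have hPP : P * P ≤ P := by
    rw [Submodule.span_mul_span]
    refine Submodule.span_mono ?_
    rintro _ ⟨_, ⟨k, rfl⟩, _, ⟨l, rfl⟩, rfl⟩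
    exact ⟨k + l + 1, by show _ = m ^ (k + 1) * m ^ (l + 1); rw [← pow_add]; congr 1; omega⟩
  have hind : ∀ k, N ≤ P ⊔ N ^ (k + 1) := by
    intro k
    induction k with
    | zero => rw [pow_one]; exact le_sup_right
    | succ k ih =>
      intro z hz
      have h1 : N * N ≤ P ⊔ N ^ (k + 2) := by
        refine le_trans (mul_le_mul' ih ih) ?_
        rw [Submodule.mul_sup, Submodule.sup_mul, Submodule.sup_mul]
        refine sup_le (sup_le (le_sup_of_le_left hPP) (le_sup_of_le_right ?_))
          (sup_le (le_sup_of_le_right ?_) (le_sup_of_le_right ?_))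
        · rw [pow_succ _ (k + 1)]; exact mul_le_mul' le_rfl hPN
        · rw [pow_succ' _ (k + 1)]; exact mul_le_mul' hPN le_rfl
        · rw [pow_succ' _ (k + 1)]; exact mul_le_mul' (hpowN k) le_rfl
      have h2 := h1 (hCfN (hNC z hz))
      have h3 : (lam z / lam m) • m ∈ P ⊔ N ^ (k + 2) :=
        Submodule.mem_sup_left (P.smul_mem _ (Submodule.subset_span ⟨0, pow_one m⟩))
      simpa using Submodule.add_mem _ h2 h3
  have hNpow : N ^ (NJ + 1) = ⊥ := by
    have h : ∀ k, N ^ (k + 1) ≤ ((Ring.jacobson A) ^ (k + 1)).restrictScalars K := fun k => by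
      induction k with
      | zero => rw [pow_one, show 0 + 1 = 1 from rfl, Submodule.pow_one]; exact inf_le_right
      | succ k ih =>
        rw [pow_succ]
        refine Submodule.mul_le.mpr fun a ha b hb => ?_
        rw [Submodule.pow_succ]
        exact Ideal.mul_mem_mul (ih ha) hb.2
    refine le_bot_iff.mp ((h NJ).trans ?_)
    rw [Submodule.pow_succ, hNJ, Submodule.bot_mul, Submodule.restrictScalars_bot]
  have hNP : N ≤ P := by simpa [hNpow] using hind NJ
  have hCf : Cf = ⊥ := by
    rw [Submodule.span_eq_bot]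
    rintro _ ⟨a, ha, b, hb, rfl⟩
    obtain ⟨c, hc1⟩ := hdecomp a ha
    obtain ⟨c', hc2⟩ := hdecomp b hb
    obtain ⟨a1, a2, -⟩ := hCor ha
    obtain ⟨b1, b2, -⟩ := hCor hb
    have hle : P ≤ Subalgebra.toSubmodule (Algebra.adjoin K {m}) := Submodule.span_le.mpr (by
      rintro _ ⟨k, rfl⟩
      exact pow_mem (Algebra.self_mem_adjoin_singleton K m) _)
    have hcomm : (a - c • f) * (b - c' • f) = (b - c' • f) * (a - c • f) :=
      Algebra.commute_of_mem_adjoin_singleton_of_commute (hle (hNP hc2))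
        (Algebra.commute_of_mem_adjoin_self (hle (hNP hc1))).symm
    rw [sub_eq_zero]
    simp only [sub_mul, mul_sub, smul_mul_assoc, mul_smul_comm, hff, a1, a2, b1, b2, smul_sub,
      smul_smul, mul_comm c'] at hcomm
    linear_combination (norm := abel) hcomm
  have hNm : ∀ z ∈ N, z = (lam z / lam m) • m := fun z hz =>
    sub_eq_zero.mp (by simpa [hCf] using hNC z hz)
  have hmm : m * m = 0 := by
    set c := lam (m * m) / lam m
    have h1 : m * m = c • m := hNm _ (hNN (Submodule.mul_mem_mul hmN hmN))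
    have h2 : ∀ k, m ^ (k + 1) = c ^ k • m := fun k => by
      induction k with
      | zero => simp
      | succ k ih => rw [pow_succ, ih, smul_mul_assoc, h1, smul_smul, pow_succ]
    have h3 := h2 NJ
    rw [pow_succ, hJnil m hmN.2, zero_mul] at h3
    rcases smul_eq_zero.mp h3.symm with h4 | h4
    · rw [h1, eq_zero_of_pow_eq_zero h4, zero_smul]
    · rw [h4, mul_zero]
  have hcoord : ∀ z ∈ Cor, ∃ x y : K, z = x • f + y • m := fun z hz => by
    obtain ⟨c, hc1⟩ := hdecomp z hz
    exact ⟨c, _, (sub_eq_iff_eq_add'.mp (hNm _ hc1))⟩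
  exact ⟨m, hmN.2, fun h => hlm (by rw [h, map_zero]), (hCor hmN.1).1, (hCor hmN.1).2.1, hmm,
    fun z h1 h2 => hcoord z (hCor' z h1 h2)⟩

theorem finrank_mulLeft
    {f m : A} {U V : Fin n → A} (hc : ∀ a, e * a = a * e)
    (hfm : f * m = m) (hmf : m * f = m) (hmm : m * m = 0)
    (hm0 : m ≠ 0) (hπm : π m = 0) (hπf : π f = Matrix.single 0 0 1)
    (hπU : ∀ a, π (U a) = Matrix.single a 0 1) (hπV : ∀ a, π (V a) = Matrix.single 0 a 1)
    (hUf : ∀ a, U a * f = U a) (hfV : ∀ a, f * V a = V a) (hUV : ∑ a, U a * V a = e)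
    (hcoord : ∀ z, f * z = z → z * f = z → ∃ x y : K, z = x • f + y • m) (he : e * e = e) (heU : ∀ a, e * U a = U a) :
    Module.finrank K (LinearMap.range (LinearMap.mulLeft K e)) = 2 * n ^ 2 := by
  classical
  have hVU : ∀ a b, V a * U b * m = if a = b then m else 0 := by
    intro a b
    obtain ⟨x, y, hxy⟩ := hcoord (V a * U b)
      (by rw [← mul_assoc, hfV]) (by rw [mul_assoc, hUf])
    have h := congrArg π hxy
    rw [map_mul, hπU, hπV, map_add, map_smul, map_smul, hπf, hπm, smul_zero, add_zero] at h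
    rw [hxy, add_mul, smul_mul_assoc, smul_mul_assoc, hfm, hmm, smul_zero, add_zero]
    by_cases hab : a = b
    · subst hab
      rw [Matrix.single_mul_single_same, one_mul] at h
      have := congrFun (congrFun h 0) 0
      simp at this
      rw [if_pos rfl, ← this, one_smul]
    · rw [Matrix.single_mul_single_of_ne (h := hab)] at h
      have := congrFun (congrFun h 0) 0
      simp at this
      rw [if_neg hab, ← this, zero_smul]
  let Ψ : (Fin n × Fin n ⊕ Fin n × Fin n → K) →ₗ[K] A :=
    Fintype.linearCombination K (Sum.elim (fun q => U q.1 * f * V q.2) (fun q => U q.1 * m * V q.2))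
  have hΨ : ∀ t, Ψ t = (∑ q, t (.inl q) • (U q.1 * f * V q.2)) +
      ∑ q, t (.inr q) • (U q.1 * m * V q.2) := fun t => by
    simp [Ψ, Fintype.linearCombination_apply, Fintype.sum_sum_type]
  have hinj : Function.Injective Ψ := by
    rw [← LinearMap.ker_eq_bot, Submodule.eq_bot_iff]
    intro t ht
    rw [LinearMap.mem_ker, hΨ] at ht
    have hl : ∀ q, t (.inl q) = 0 := by
      intro q
      have h := congrArg (fun z => π z q.1 q.2) ht
      simp only [map_add, map_sum, map_smul, map_mul, hπU, hπV, hπf, hπm, mul_zero, zero_mul,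
        smul_zero, Finset.sum_const_zero, add_zero, map_zero, Matrix.single_mul_single_same,
        mul_one, Matrix.zero_apply] at h
      simpa [Matrix.sum_apply, Matrix.single_apply, ite_and, Fintype.sum_prod_type] using h
    simp only [hl, zero_smul, Finset.sum_const_zero, zero_add] at ht
    have hr : ∀ q, t (.inr q) = 0 := by
      intro q
      have h := congrArg (fun z => V q.1 * z * U q.2) ht
      simp only [Finset.mul_sum, Finset.sum_mul, mul_smul_comm, smul_mul_assoc, mul_zero,
        zero_mul] at h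
      have e1 : ∀ x : Fin n × Fin n, V q.1 * (U x.1 * m * V x.2) * U q.2 =
          if x = q then m else 0 := fun x => by
        have e2 : m * (V x.2 * U q.2) = if x.2 = q.2 then m else 0 := by
          obtain ⟨c, y, hxy⟩ := hcoord (V x.2 * U q.2)
            (by rw [← mul_assoc, hfV]) (by rw [mul_assoc, hUf])
          have := hVU x.2 q.2
          rw [hxy, add_mul, smul_mul_assoc, smul_mul_assoc, hfm, hmm, smul_zero,
            add_zero] at this
          rw [hxy, mul_add, mul_smul_comm, mul_smul_comm, hmf, hmm, smul_zero,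
            add_zero, this]
        calc V q.1 * (U x.1 * m * V x.2) * U q.2 = V q.1 * U x.1 * m * (V x.2 * U q.2) := by
              simp only [mul_assoc]
          _ = _ := by
            rw [hVU]
            by_cases h1 : q.1 = x.1
            · rw [if_pos h1, e2]
              simp [Prod.ext_iff, h1.symm]
            · rw [if_neg h1, zero_mul, if_neg fun h => h1 (by rw [h])]
      simp only [e1, smul_ite, smul_zero, Finset.sum_ite_eq', Finset.mem_univ, if_true] at h
      exact (smul_eq_zero.mp h).resolve_right hm0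
    funext q
    rcases q with q | q
    · exact hl q
    · exact hr q
  have hrange : LinearMap.range Ψ = LinearMap.range (LinearMap.mulLeft K e) := by
    refine le_antisymm ?_ ?_
    · rintro _ ⟨t, rfl⟩
      refine ⟨Ψ t, ?_⟩
      rw [LinearMap.mulLeft_apply, hΨ]
      simp only [mul_add, Finset.mul_sum, mul_smul_comm, ← mul_assoc, heU]
    · rintro _ ⟨z, rfl⟩
      choose x y hxy using fun q : Fin n × Fin n => hcoord (V q.1 * z * U q.2)
        (by simp only [← mul_assoc, hfV]) (by simp only [mul_assoc, hUf])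
      refine ⟨Sum.elim x y, ?_⟩
      rw [hΨ, LinearMap.mulLeft_apply, ← Finset.sum_add_distrib]
      calc ∑ q : Fin n × Fin n, (x q • (U q.1 * f * V q.2) + y q • (U q.1 * m * V q.2))
          = ∑ q : Fin n × Fin n, U q.1 * (V q.1 * z * U q.2) * V q.2 :=
            Finset.sum_congr rfl fun q _ => by
              rw [hxy]; simp only [mul_add, add_mul, mul_smul_comm, smul_mul_assoc]
        _ = (∑ a, U a * V a) * z * ∑ b, U b * V b := by
              rw [Fintype.sum_prod_type, Finset.sum_mul, Finset.sum_mul]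
              refine Finset.sum_congr rfl fun a _ => ?_
              rw [Finset.mul_sum]
              exact Finset.sum_congr rfl fun b _ => by simp only [mul_assoc]
        _ = e * z := by rw [hUV, mul_assoc, ← hc z, ← mul_assoc, he]
  rw [← hrange, LinearMap.finrank_range_of_inj hinj, Module.finrank_fintype_fun_eq_card,
    Fintype.card_sum, Fintype.card_prod, Fintype.card_fin]
  ring

theorem finrank_mulRight
    {f m : A} {U V : Fin n → A} (hc : ∀ a, e * a = a * e)
    (hef : e * f = f) (hff : f * f = f) (hfm : f * m = m) (hmf : m * f = m) (hmm : m * m = 0)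
    (hm0 : m ≠ 0) (hπm : π m = 0) (hπf : π f = Matrix.single 0 0 1)
    (hπU : ∀ a, π (U a) = Matrix.single a 0 1) (hπV : ∀ a, π (V a) = Matrix.single 0 a 1)
    (hUf : ∀ a, U a * f = U a) (hfV : ∀ a, f * V a = V a) (hUV : ∑ a, U a * V a = e)
    (hcoord : ∀ z, f * z = z → z * f = z → ∃ x y : K, z = x • f + y • m) :
    Module.finrank K (LinearMap.range (LinearMap.mulRight K f)) = 2 * n := by
  classical
  have hVU : ∀ a b, V a * U b * m = if a = b then m else 0 := by
    intro a b
    obtain ⟨x, y, hxy⟩ := hcoord (V a * U b)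
      (by rw [← mul_assoc, hfV]) (by rw [mul_assoc, hUf])
    have h := congrArg π hxy
    rw [map_mul, hπU, hπV, map_add, map_smul, map_smul, hπf, hπm, smul_zero, add_zero] at h
    rw [hxy, add_mul, smul_mul_assoc, smul_mul_assoc, hfm, hmm, smul_zero, add_zero]
    by_cases hab : a = b
    · subst hab
      rw [Matrix.single_mul_single_same, one_mul] at h
      have := congrFun (congrFun h 0) 0
      simp at this
      rw [if_pos rfl, ← this, one_smul]
    · rw [Matrix.single_mul_single_of_ne (h := hab)] at h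
      have := congrFun (congrFun h 0) 0
      simp at this
      rw [if_neg hab, ← this, zero_smul]
  let Ψ : (Fin n ⊕ Fin n → K) →ₗ[K] A :=
    Fintype.linearCombination K (Sum.elim (fun a => U a * f) (fun a => U a * m))
  have hΨ : ∀ t, Ψ t = (∑ a, t (.inl a) • (U a * f)) + ∑ a, t (.inr a) • (U a * m) :=
    fun t => by simp [Ψ, Fintype.linearCombination_apply, Fintype.sum_sum_type]
  have hinj : Function.Injective Ψ := by
    rw [← LinearMap.ker_eq_bot, Submodule.eq_bot_iff]
    intro t ht
    rw [LinearMap.mem_ker, hΨ] at ht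
    have hl : ∀ a, t (.inl a) = 0 := by
      intro a
      have h := congrArg (fun z => π z a 0) ht
      simp only [map_add, map_sum, map_smul, map_mul, hπU, hπf, hπm, mul_zero,
        smul_zero, Finset.sum_const_zero, add_zero, map_zero, Matrix.single_mul_single_same,
        mul_one, Matrix.zero_apply] at h
      simpa [Matrix.sum_apply, Matrix.single_apply, ite_and] using h
    simp only [hl, zero_smul, Finset.sum_const_zero, zero_add] at ht
    have hr : ∀ a, t (.inr a) = 0 := by
      intro a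
      have h := congrArg (fun z => V a * z) ht
      simp only [Finset.mul_sum, mul_smul_comm, ← mul_assoc, hVU, mul_zero, smul_ite, smul_zero,
        Finset.sum_ite_eq, Finset.mem_univ, if_true] at h
      exact (smul_eq_zero.mp h).resolve_right hm0
    funext q
    rcases q with q | q
    · exact hl q
    · exact hr q
  have hrange : LinearMap.range Ψ = LinearMap.range (LinearMap.mulRight K f) := by
    refine le_antisymm ?_ ?_
    · rintro _ ⟨t, rfl⟩
      refine ⟨Ψ t, ?_⟩
      rw [LinearMap.mulRight_apply, hΨ]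
      simp only [add_mul, Finset.sum_mul, smul_mul_assoc, mul_assoc, hff, hmf]
    · rintro _ ⟨z, rfl⟩
      choose x y hxy using fun a : Fin n => hcoord (V a * z * f)
        (by simp only [← mul_assoc, hfV]) (by simp only [mul_assoc, hff])
      refine ⟨Sum.elim x y, ?_⟩
      rw [hΨ, LinearMap.mulRight_apply, ← Finset.sum_add_distrib]
      calc ∑ a, (x a • (U a * f) + y a • (U a * m)) = ∑ a, U a * (V a * z * f) :=
            Finset.sum_congr rfl fun a _ => by
              rw [hxy]; simp only [mul_add, mul_smul_comm]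
        _ = e * z * f := by
              rw [← hUV, Finset.sum_mul, Finset.sum_mul]
              exact Finset.sum_congr rfl fun a _ => by simp only [mul_assoc]
        _ = z * f := by rw [hc z, mul_assoc, hef]
  rw [← hrange, LinearMap.finrank_range_of_inj hinj, Module.finrank_fintype_fun_eq_card,
    Fintype.card_sum, Fintype.card_fin]
  ring

end Units

section Shape

variable [FiniteDimensional K A] [IsAlgClosed K]

/-- The shape of a block of a symmetric algebra with two traces. -/
theorem block_shape (e : A) (he : e * e = e) (hc : ∀ a, e * a = a * e) (he0 : e ≠ 0)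
    (lam : A →ₗ[K] K) (hsym : ∀ a b, lam (a * b) = lam (b * a))
    (hnd : ∀ x, (∀ y, lam (x * y) = 0) → x = 0) (T : A →ₗ[K] Fin 2 → K)
    (hT : ∀ x, e * x = x → T x = 0 → x ∈ commSpan K A)
    (hns : ∃ j ∈ Ring.jacobson A, e * j ≠ 0) :
    ∃ (n : ℕ) (f : A), f * f = f ∧
      Module.finrank K (LinearMap.range (LinearMap.mulLeft K e)) = 2 * n ^ 2 ∧
      Module.finrank K (LinearMap.range (LinearMap.mulRight K f)) = 2 * n := by
  have : IsArtinianRing A := IsArtinianRing.of_finite K A
  obtain ⟨n, π, hn, hπs, hπe, hπJ, hπ0, hkey, j₀, hj₀J, hej₀, hy⟩ :=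
    exists_proj e he hc he0 lam hsym hnd T hT hns
  have : NeZero n := ⟨hn.ne'⟩
  obtain ⟨f, U, V, hff, hef, hπf, hπU, hπV, hUf, hfV, heU, hVe, hUV⟩ :=
    exists_units e π he hc hπs hπe hπJ hπ0
  obtain ⟨m, hmJ, hm0, hfm, hmf, hmm, hcoord⟩ := exists_corner e π lam hsym hc hπJ hπ0 hkey
    hj₀J hej₀ hy hff hef hπf hUf hfV hVe hUV
  exact ⟨n, f, hff,
    finrank_mulLeft e π hc hfm hmf hmm hm0 (hπJ m hmJ) hπf hπU hπV hUf hfV hUV hcoord he heU,
    finrank_mulRight e π hc hef hff hfm hmf hmm hm0 (hπJ m hmJ) hπf hπU hπV hUf hfV hUV hcoord⟩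

end Shape

end Cfsg.Agent.BlockAlg8
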