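import Cfsg.Agent.BlockAlg8.Residue
import Cfsg.Agent.BlockAlg8.Algebra
import Cfsg.Agent.BlockAlg8.Projective
import Cfsg.Agent.BlkChar.Coeff
import Cfsg.Agent.Lib.BlocksCore.DefectFusion
import Cfsg.Agent.S4733

/-!
# Blocks with two irreducible characters

The block algebra over the residue field has trace space of dimension two, so it is a matrix
algebra over a local algebra of dimension two, and the defect is one.
-/

set_option autoImplicit false

namespace Cfsg.Agent.BlockAlg8

open BlocksCore BlocksDefect MonoidAlgebra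
open scoped ComplexConjugate

variable {G : Type*} [Group G] [Fintype G] {p : ℕ} {M : Ideal AlgInt}

section Basic

variable [M.IsPrime]

theorem coeff_toAlg (a : G → ℂ) (x : G) : (toAlg M a).coeff x = red M (a x) := by
  classical
  simp [toAlg, coeff_sum, Finsupp.finsetSum_apply, Finsupp.single_apply]

theorem coeff_mul_eq (a b : MonoidAlgebra (Res M) G) (x : G) :
    (a * b).coeff x = ∑ y, a.coeff y * b.coeff (y⁻¹ * x) := by
  classical
  induction a using MonoidAlgebra.induction_linear with
  | zero => simp
  | add f g hf hg => simp [add_mul, hf, hg, Finset.sum_add_distrib]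
  | single y c =>
    rw [coeff_single_mul_apply, Finset.sum_eq_single y]
    · simp
    · intro z _ hz; simp [Finsupp.single_eq_of_ne hz]
    · simp

theorem toAlg_mul_comm {a : G → ℂ} (ha : IsClassFunction G a) (x : MonoidAlgebra (Res M) G) :
    toAlg M a * x = x * toAlg M a := by
  classical
  induction x using MonoidAlgebra.induction_linear with
  | zero => simp
  | add f g hf hg => rw [mul_add, add_mul, hf, hg]
  | single y c =>
    apply MonoidAlgebra.ext
    refine Finsupp.ext fun z => ?_
    rw [coeff_single_mul_apply, coeff_mul_single_apply, coeff_toAlg, coeff_toAlg, mul_comm,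
      ← ha (z * y⁻¹) y⁻¹]
    congr 3
    group

/-- An element with vanishing class sums is a sum of commutators. -/
theorem mem_commSpan_of_classSum (x : MonoidAlgebra (Res M) G)
    (h : ∀ g, ∑ y, red M (classInd g y) * x.coeff y = 0) :
    x ∈ commSpan (Res M) (MonoidAlgebra (Res M) G) := by
  classical
  let rep : G → G := fun y => (ConjClasses.mk y).out
  have hrep : ∀ y, IsConj y (rep y) := fun y =>
    ConjClasses.mk_eq_mk_iff_isConj.mp (Quotient.out_eq (ConjClasses.mk y)).symm
  have hcomm : ∀ y, single y (x.coeff y) - single (rep y) (x.coeff y) ∈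
      commSpan (Res M) (MonoidAlgebra (Res M) G) := by
    intro y
    obtain ⟨t, ht⟩ := isConj_iff.mp (hrep y)
    refine Submodule.subset_span ⟨single (y * t⁻¹) (x.coeff y), single t 1, ?_⟩
    rw [single_mul_single, single_mul_single, mul_one, one_mul, inv_mul_cancel_right, ← mul_assoc, ht]
  have hzero : ∑ y, single (rep y) (x.coeff y) = 0 := by
    apply MonoidAlgebra.ext
    refine Finsupp.ext fun z => ?_
    rw [coeff_sum, Finsupp.finsetSum_apply, coeff_zero, Finsupp.zero_apply]
    by_cases hz : rep z = z
    · rw [← h z]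
      refine Finset.sum_congr rfl fun y _ => ?_
      rw [coeff_single, Finsupp.single_apply]
      by_cases hy : IsConj z y
      · rw [classInd_apply_of_isConj hy, show (red M 1) = 1 by
          rw [show (1 : ℂ) = ((1 : localRing M) : ℂ) from rfl, red_coe, map_one], one_mul, if_pos]
        rw [← hz]
        simp only [rep, ConjClasses.mk_eq_mk_iff_isConj.mpr hy]
      · rw [classInd_apply_of_not_isConj hy, red_eq_zero memLocalIdeal_zero, zero_mul, if_neg]
        exact fun e => hy (e ▸ (hrep y).symm)
    · refine Finset.sum_eq_zero fun y _ => ?_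
      rw [coeff_single, Finsupp.single_apply, if_neg]
      rintro rfl
      refine hz ?_
      simp only [rep]
      rw [show ConjClasses.mk ((ConjClasses.mk y).out) = ConjClasses.mk y from Quotient.out_eq _]
  have hx : x = ∑ y, (single y (x.coeff y) - single (rep y) (x.coeff y)) := by
    rw [Finset.sum_sub_distrib, hzero, sub_zero]
    apply MonoidAlgebra.ext
    refine Finsupp.ext fun z => ?_
    simp [coeff_sum]
  rw [hx]
  exact Submodule.sum_mem _ fun y _ => hcomm y

/-- A centralizer of order divisible by `p` kills the conjugation trace. -/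
theorem red_trace_eq_zero [Fact p.Prime] (hM : IsPModular p M) {a : G → ℂ}
    (ha : ∀ x, MemLocalRing M (a x)) {g : G}
    (hg : p ∣ Nat.card (Subgroup.centralizer ({g} : Set G))) :
    MemLocalIdeal M (∑ t, a (t * g * t⁻¹)) := by
  classical
  set C := Subgroup.centralizer ({g} : Set G)
  have : Fintype C := Fintype.ofFinite C
  have : Fintype (G ⧸ C) := Fintype.ofFinite _
  rw [← Equiv.sum_comp (Subgroup.groupEquivQuotientProdSubgroup (s := C)).symm,
    Fintype.sum_prod_type]
  have hconst : ∀ (q : G ⧸ C) (c : C), a ((Subgroup.groupEquivQuotientProdSubgroup (s := C)).symm (q, c) * g *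
      ((Subgroup.groupEquivQuotientProdSubgroup (s := C)).symm (q, c))⁻¹) = a (q.out * g * q.out⁻¹) := by
    intro q c
    have hc : (c : G) * g * (c : G)⁻¹ = g := by
      rw [Subgroup.mem_centralizer_singleton_iff.mp c.2, mul_inv_cancel_right]
    have hfib : ∃ c' : C, (Subgroup.groupEquivQuotientProdSubgroup (s := C)).symm (q, c) = q.out * c' := by
      refine ⟨⟨q.out⁻¹ * (Subgroup.groupEquivQuotientProdSubgroup (s := C)).symm (q, c), ?_⟩, ?_⟩
      · rw [← QuotientGroup.eq, QuotientGroup.out_eq']
        exact (congrArg Prod.fst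
          ((Subgroup.groupEquivQuotientProdSubgroup (s := C)).apply_symm_apply (q, c))).symm
      · rw [mul_inv_cancel_left]
    obtain ⟨c', hc'⟩ := hfib
    have hc2 : (c' : G) * g * (c' : G)⁻¹ = g := by
      rw [Subgroup.mem_centralizer_singleton_iff.mp c'.2, mul_inv_cancel_right]
    rw [hc']
    congr 1
    calc q.out * c' * g * (q.out * c')⁻¹ = q.out * ((c' : G) * g * (c' : G)⁻¹) * q.out⁻¹ := by group
      _ = _ := by rw [hc2]
  simp only [hconst, Finset.sum_const, Finset.card_univ, nsmul_eq_mul]
  refine memLocalIdeal_sum fun q _ => memLocalIdeal_mul_right ?_ (ha _)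
  rw [← Nat.card_eq_fintype_card]
  exact (memLocalIdeal_natCast_iff hM _).mpr hg

end Basic

/-- A block with exactly two characters has defect one, and the prime is two. -/
theorem defect_of_card_two [Fact p.Prime] (hM : IsPModular p M) {B : Set (IrrCharacter G)}
    (hB : IsPBlock M B) {D : Subgroup G} (hD : IsDefectGroup p M B D) (h2 : Nat.card B = 2) :
    p = 2 ∧ blockDefect p B = 1 := by
  classical
  have := isPrime hM
  have := isMaximal hM
  have := charP_res (M := M) hM
  have := finite_irr (G := G)
  have := Fintype.ofFinite (IrrCharacter G)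
  have hp : p.Prime := Fact.out
  have hd0 : blockDefect p B ≠ 0 := fun h0 => by
    have := (((Cfsg.Agent.S4733.result p M hM B hB).2.1).mp h0).1
    omega
  have hDne : Nat.card D = p ^ blockDefect p B := defectGroup_natCard hM hB hD
  set A := MonoidAlgebra (Res M) G
  set eC := blockCoeff B with heC
  have heI : IsIntClassFun M eC := isIntClassFun_blockCoeff hM hB
  set e : A := toAlg M eC with he_def
  have he : e * e = e := by
    rw [he_def, ← toAlg_conv heI.2 heI.2, heC, conv_blockCoeff_self]
  have hc : ∀ a, e * a = a * e := toAlg_mul_comm heI.1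
  have hD' := hD
  obtain ⟨g₀, hg₀, -⟩ := hD
  have he0 : e ≠ 0 := by
    intro h
    have h1 := congrArg (fun z : A => z.coeff g₀) h
    rw [he_def, coeff_toAlg, coeff_zero, Finsupp.zero_apply,
      show (0 : Res M) = red M 0 from (red_eq_zero memLocalIdeal_zero).symm,
      red_eq_iff hg₀.1 ((localRing M).zero_mem), sub_zero] at h1
    exact hg₀.2.1 h1
  let lam : A →ₗ[Res M] Res M :=
    (Finsupp.lapply 1).comp (coeffLinearEquiv (Res M)).toLinearMap
  have hlam : ∀ a, lam a = a.coeff 1 := fun a => rfl
  have hsym : ∀ a b, lam (a * b) = lam (b * a) := fun a b => by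
    rw [hlam, hlam, coeff_mul_eq, coeff_mul_eq]
    exact Fintype.sum_equiv (Equiv.inv G) _ _ fun y => by simp [mul_comm]
  have hnd : ∀ x, (∀ y, lam (x * y) = 0) → x = 0 := fun x hx => by
    apply MonoidAlgebra.ext
    refine Finsupp.ext fun z => ?_
    have h1 := hx (single z⁻¹ 1)
    rw [hlam, coeff_mul_single_apply, inv_inv, one_mul, mul_one] at h1
    simpa using h1
  -- the trace functionals
  let F : G → G → ℂ := fun g h => conv (classInd g⁻¹) eC h⁻¹
  have hFint : ∀ g h, MemLocalRing M (F g h) := fun g h =>
    (isIntClassFun_conv (isIntClassFun_classInd g⁻¹) heI).2 h⁻¹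
  set W : Submodule ℂ (G → ℂ) :=
    Submodule.span ℂ ((fun χ : IrrCharacter G => (χ : G → ℂ)) '' B) with hW
  have hFW : ∀ g, F g ∈ W := by
    intro g
    have hcf : IsClassFunction G (F g) := fun x t => by
      show conv _ _ _ = conv _ _ _
      rw [show (t * x * t⁻¹)⁻¹ = t * x⁻¹ * t⁻¹ by group]
      exact isClassFunction_conv (isClassFunction_classInd _) heI.1 _ _
    rw [CharCore.eq_sum_classInner hcf]
    refine Submodule.sum_mem _ fun χ _ => ?_
    by_cases hχ : χ ∈ B
    · exact Submodule.smul_mem _ _ (Submodule.subset_span ⟨χ, hχ, rfl⟩)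
    · have h0 : classInner (F g) (χ : G → ℂ) = 0 := by
        have h1 : omega (χ : G → ℂ) (conv (classInd g⁻¹) eC) = 0 := by
          rw [omega_conv χ (isClassFunction_classInd _) heI.1, heC, omega_blockCoeff,
            Set.indicator_of_notMem hχ, mul_zero]
        rw [omega_eq_sum, div_eq_zero_iff, or_iff_left (irr_one_ne_zero χ)] at h1
        rw [classInner, mul_eq_zero]
        right
        rw [← h1]
        exact Fintype.sum_equiv (Equiv.inv G) _ _ fun h => by
          simp only [F, Equiv.inv_apply, conj_irr]
      rw [h0, zero_smul]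
      exact W.zero_mem
  have hW2 : Module.finrank ℂ W ≤ 2 := by
    rw [hW]
    have : Fintype B := Fintype.ofFinite B
    rw [show (fun χ : IrrCharacter G => (χ : G → ℂ)) '' B =
      Set.range fun χ : B => ((χ : IrrCharacter G) : G → ℂ) by rw [Set.image_eq_range]]
    refine (finrank_range_le_card (R := ℂ) fun χ : B => ((χ : IrrCharacter G) : G → ℂ)).trans ?_
    rw [← Nat.card_eq_fintype_card, h2]
  set S := Submodule.span (Res M) (Set.range fun g h => red M (F g h)) with hS
  have hS2 : Module.finrank (Res M) S ≤ 2 :=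
    (finrank_span_red_le F hFint W hFW).trans hW2
  let bS := Module.finBasis (Res M) S
  let w : Fin 2 → G → Res M := fun i =>
    if h : (i : ℕ) < Module.finrank (Res M) S then (bS ⟨i, h⟩ : G → Res M) else 0
  let T : A →ₗ[Res M] Fin 2 → Res M := LinearMap.pi fun i =>
    ∑ h : G, w i h • (Finsupp.lapply h).comp (coeffLinearEquiv (Res M)).toLinearMap
  have hTap : ∀ x i, T x i = ∑ h, w i h * x.coeff h := fun x i => by
    simp [T, LinearMap.sum_apply]
    rfl
  have hT : ∀ x, e * x = x → T x = 0 → x ∈ commSpan (Res M) A := by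
    intro x hx hTx
    have hker : ∀ v ∈ S, ∑ h, v h * x.coeff h = 0 := by
      intro v hv
      have hb := bS.sum_repr ⟨v, hv⟩
      have hv' : v = ∑ j, bS.repr ⟨v, hv⟩ j • (bS j : G → Res M) := by
        have h3 := congrArg Subtype.val hb
        rw [Submodule.coe_sum] at h3
        exact h3.symm
      rw [hv']
      simp only [Finset.sum_apply, Pi.smul_apply, smul_eq_mul, Finset.sum_mul]
      rw [Finset.sum_comm]
      refine Finset.sum_eq_zero fun j _ => ?_
      have hj : (j : ℕ) < 2 := lt_of_lt_of_le j.2 hS2
      have h1 := congrFun hTx ⟨j, hj⟩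
      rw [hTap, Pi.zero_apply] at h1
      simp only [w, dif_pos j.2, Fin.eta] at h1
      rw [← mul_zero (bS.repr ⟨v, hv⟩ j), ← h1, Finset.mul_sum]
      exact Finset.sum_congr rfl fun h _ => by rw [mul_assoc]
    refine mem_commSpan_of_classSum x fun g => ?_
    rw [← hker (fun h => red M (F g h)) (Submodule.subset_span ⟨g, rfl⟩)]
    have hxc : ∀ y, MonoidAlgebra.coeff x y = ∑ h, red M (eC (y * h⁻¹)) * MonoidAlgebra.coeff x h := by
      intro y
      conv_lhs => rw [← hx, coeff_mul_eq]
      refine Fintype.sum_equiv ((Equiv.inv G).trans (Equiv.mulRight y)) _ _ fun z => ?_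
      simp [he_def, coeff_toAlg]
    have e1 : ∀ h, red M (F g h) = ∑ y, red M (classInd g y) * red M (eC (y * h⁻¹)) := by
      intro h
      rw [show F g h = ∑ y, classInd g y * eC (y * h⁻¹) from ?_,
        red_sum _ fun y => (localRing M).mul_mem ((isIntClassFun_classInd g).2 y) (heI.2 _)]
      · exact Finset.sum_congr rfl fun y _ => red_mul ((isIntClassFun_classInd g).2 y) (heI.2 _)
      · simp only [F, conv_apply]
        refine Fintype.sum_equiv (Equiv.inv G) _ _ fun y => ?_
        simp only [Equiv.inv_apply]
        congr 1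
        by_cases hy : IsConj g⁻¹ y
        · rw [classInd_apply_of_isConj hy, classInd_apply_of_isConj]
          obtain ⟨c, hc⟩ := isConj_iff.mp hy
          exact isConj_iff.mpr ⟨c, by rw [← hc]; group⟩
        · rw [classInd_apply_of_not_isConj hy, classInd_apply_of_not_isConj]
          intro h'
          obtain ⟨c, hc⟩ := isConj_iff.mp h'
          exact hy (isConj_iff.mpr ⟨c, by rw [← inv_inv y, ← hc]; group⟩)
    simp only [e1, Finset.sum_mul, mul_assoc]
    rw [Finset.sum_comm (f := fun h y => red M (classInd g y) * (red M (eC (y * h⁻¹)) * MonoidAlgebra.coeff x h))]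
    refine Finset.sum_congr rfl fun y _ => ?_
    rw [← Finset.mul_sum, ← hxc]
  -- the block algebra is not semisimple
  have hns : ∃ j ∈ Ring.jacobson A, e * j ≠ 0 := by
    by_contra hss
    push Not at hss
    obtain ⟨r, d, π₀, hd, hπs, hπker⟩ := exists_pi (K := Res M) (A := A)
    have hinj : ∀ z, e * z = z → π₀ z = 0 → z = 0 := fun z hz h => by
      rw [← hz, hss z ((hπker z).mp h)]
    obtain ⟨i, hi⟩ : ∃ i, π₀ e i ≠ 0 := Function.ne_iff.mp fun h => he0 (hinj e he h)
    have hi1 : π₀ e i = 1 := by
      refine (scalar_of_central (fun X => ?_) ?_).resolve_left hi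
      · obtain ⟨a, ha⟩ := hπs (Pi.single i X)
        have h := congrArg (fun z => π₀ z i) (hc a)
        simpa [ha] using h
      · simpa using congrArg (fun z => π₀ z i) he
    have := hd i
    obtain ⟨a₀, ha₀⟩ := hπs (Pi.single i (Matrix.single 0 0 1))
    set a : A := e * a₀ with ha_def
    have hea : e * a = a := by rw [ha_def, ← mul_assoc, he]
    have hπa : π₀ a = Pi.single i (Matrix.single 0 0 1) := by
      rw [ha_def, map_mul, ha₀]
      funext k
      by_cases hk : k = i
      · subst hk; rw [Pi.mul_apply, Pi.single_eq_same, hi1, one_mul]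
      · rw [Pi.mul_apply, Pi.single_eq_of_ne hk, mul_zero]
    have hsq : ∀ x, ∃ c : Res M, a * x * a = c • a := by
      intro x
      refine ⟨π₀ x i 0 0, sub_eq_zero.mp (hinj _ ?_ ?_)⟩
      · rw [mul_sub, mul_smul_comm, hea, mul_assoc a x a, ← mul_assoc e a, hea]
      · rw [map_sub, map_smul, map_mul, map_mul, hπa]
        funext k
        by_cases hk : k = i
        · subst hk
          rw [Pi.sub_apply, Pi.mul_apply, Pi.mul_apply, Pi.smul_apply, Pi.single_eq_same,
            Matrix.single_mul_mul_single, Matrix.smul_single, smul_eq_mul, one_mul, mul_one,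
            sub_self, Pi.zero_apply]
        · simp [Pi.single_eq_of_ne hk]
    have haa : a * a = a := by
      refine sub_eq_zero.mp (hinj _ (by rw [mul_sub, ← mul_assoc, hea]) ?_)
      rw [map_sub, map_mul, hπa, ← Pi.single_mul, Matrix.single_mul_single_same, one_mul, sub_self]
    let L : A →ₗ[Res M] A := (LinearMap.mulLeft (Res M) a).comp (LinearMap.mulRight (Res M) a)
    have hrange : LinearMap.range L = Submodule.span (Res M) {a} := by
      refine le_antisymm ?_ ((Submodule.span_singleton_le_iff_mem _ _).mpr ⟨a, by simp [L, haa]⟩)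
      rintro _ ⟨x, rfl⟩
      obtain ⟨c, hc1⟩ := hsq x
      rw [Submodule.mem_span_singleton]
      exact ⟨c, by simp [L, ← mul_assoc, hc1]⟩
    have hproj : LinearMap.IsProj (LinearMap.range L) L := by
      refine ⟨fun v => LinearMap.mem_range_self _ v, ?_⟩
      rintro _ ⟨x, rfl⟩
      simp only [L, LinearMap.comp_apply, LinearMap.mulLeft_apply, LinearMap.mulRight_apply]
      calc a * (a * (x * a) * a) = (a * a) * x * (a * a) := by simp only [mul_assoc]
        _ = a * (x * a) := by rw [haa, mul_assoc]
    have ha0 : a ≠ 0 := fun h => by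
      have h1 := congrArg (fun z => z i 0 0) hπa
      simp [h] at h1
    have htr : LinearMap.trace (Res M) A L = 1 := by
      rw [hproj.trace, hrange, finrank_span_singleton ha0, Nat.cast_one]
    let b := (Finsupp.basisSingleOne (R := Res M) (ι := G)).map (coeffLinearEquiv (Res M)).symm
    have hb : ∀ g, b g = single g 1 := fun g => by simp [b]
    have hsum : LinearMap.trace (Res M) A L = ∑ g, MonoidAlgebra.coeff (a * (single g 1 * a)) g := by
      rw [LinearMap.trace_eq_matrix_trace (Res M) b, Matrix.trace]
      refine Finset.sum_congr rfl fun g _ => ?_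
      rw [Matrix.diag_apply, LinearMap.toMatrix_apply, hb]
      simp [b, L]
    set c : A := ∑ t, single t 1 * a * single t⁻¹ 1 with hc_def
    have hlc : lam (a * c) = 1 := by
      rw [← htr, hsum, hc_def, Finset.mul_sum, map_sum]
      refine Finset.sum_congr rfl fun g _ => ?_
      rw [hlam, ← mul_assoc, coeff_mul_single_apply, inv_inv, one_mul, mul_one]
    have hc0 : c ≠ 0 := fun h => by
      rw [h, mul_zero, map_zero] at hlc
      exact zero_ne_one hlc
    have hec : e * c = c := by
      rw [hc_def, Finset.mul_sum]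
      refine Finset.sum_congr rfl fun t _ => ?_
      rw [← mul_assoc, ← mul_assoc, hc, mul_assoc (single t 1) e a, hea]
    choose al hal using fun x : G => Ideal.Quotient.mk_surjective (a.coeff x)
    set s : G → ℂ := fun x => ∑ t, ((al (t * x * t⁻¹) : localRing M) : ℂ) with hs_def
    have hsI : IsIntClassFun M s := by
      refine ⟨fun x h => ?_, fun x => (localRing M).sum_mem fun t _ => (al _).2⟩
      exact Fintype.sum_equiv (Equiv.mulRight h) _ _ fun t => by
        rw [Equiv.coe_mulRight]
        congr 2
        group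
    have hcs : c = toAlg M s := by
      apply MonoidAlgebra.ext
      refine Finsupp.ext fun x => ?_
      rw [coeff_toAlg, hs_def, red_sum _ fun t => (al _).2, hc_def, coeff_sum,
        Finsupp.finsetSum_apply]
      refine Fintype.sum_equiv (Equiv.inv G) _ _ fun t => ?_
      rw [coeff_mul_single_apply, coeff_single_mul_apply, one_mul, mul_one, red_coe, hal,
        Equiv.inv_apply, inv_inv]
      congr 1
      group
    -- the central characters at `s` are small
    obtain ⟨ψ, hψ⟩ := isPBlock_nonempty hB
    have hsmall : MemLocalIdeal M (omega (ψ : G → ℂ) s) := by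
      by_contra hu
      obtain ⟨g, hsg, hwg⟩ := exists_unit_class hM ψ hsI hu
      obtain ⟨x, hgx, hxD, -⟩ := exists_conj_mem_centralizer_defectGroup hM hB hD' hψ hwg
      refine hsg (red_trace_eq_zero hM (fun y => (al y).2) ?_)
      rw [natCard_centralizer_of_isConj hgx]
      refine dvd_trans ?_ (Subgroup.card_dvd_of_le (show D ≤ Subgroup.centralizer ({x} : Set G) from
        fun u hu => Subgroup.mem_centralizer_singleton_iff.mpr
          (Subgroup.mem_centralizer_iff.mp hxD u hu)))
      rw [hDne]
      exact dvd_pow_self p hd0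
    set s' := conv eC s with hs'
    have hs'I : IsIntClassFun M s' := isIntClassFun_conv heI hsI
    have hcs' : c = toAlg M s' := by
      rw [hs', toAlg_conv heI.2 hsI.2, ← hcs, ← he_def, hec]
    have hall : ∀ χ : IrrCharacter G, MemLocalIdeal M (omega (χ : G → ℂ) s') := by
      intro χ
      rw [hs', omega_conv χ heI.1 hsI.1, heC, omega_blockCoeff]
      by_cases hχ : χ ∈ B
      · rw [Set.indicator_of_mem hχ, Pi.one_apply, one_mul]
        have h1 := memLocalIdeal_add hsmall
          (omega_sub_memLocalIdeal (sameBlock_of_mem hB hχ hψ) hsI)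
        simpa using h1
      · rw [Set.indicator_of_notMem hχ, zero_mul]
        exact memLocalIdeal_zero
    obtain ⟨N, dd, hdc, hdm, hdv⟩ := exists_small_pow
      (omega_mem_omegaRing (G := G) hs'I) hall
    obtain ⟨cc, hccI, hccω, hccA⟩ := exists_pow_fun hs'I (N + 1)
    have hcc : cc = dd := eq_of_omega_eq hccI.1 hdc fun χ => by rw [hccω, hdv]
    have hnil : c ^ (N + 1) = 0 := by
      rw [hcs', ← hccA, hcc]
      exact Finset.sum_eq_zero fun x _ => by rw [red_eq_zero (hdm x), zero_smul]
    have hcc2 : ∀ z, c * z = z * c := fun z => by rw [hcs']; exact toAlg_mul_comm hs'I.1 z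
    refine hc0 (hinj c hec (funext fun k => ?_))
    obtain ⟨u, hu⟩ := Matrix.mem_range_scalar_of_commute_single (M := π₀ c k) fun i' j' _ => by
      obtain ⟨z, hz⟩ := hπs (Pi.single k (Matrix.single i' j' 1))
      have h := congrArg (fun w => π₀ w k) (hcc2 z)
      simp [hz] at h
      exact h.symm
    have hkpow : π₀ c k ^ (N + 1) = 0 := by
      rw [← Pi.pow_apply, ← map_pow, hnil, map_zero, Pi.zero_apply]
    have := hd k
    rw [← hu, ← map_pow] at hkpow
    have h1 := congrFun (congrFun hkpow 0) 0
    simp at h1
    rw [← hu, h1, map_zero, Pi.zero_apply]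
  -- the dimensions
  obtain ⟨n, f, hff, hdimB, hdimP⟩ := block_shape e he hc he0 lam hsym hnd T hT hns
  have hn : ∑ᶠ χ ∈ B, charDegree (χ : G → ℂ) ^ 2 = 2 * n ^ 2 := by
    rw [← hdimB]
    apply Nat.cast_injective (R := ℂ)
    let Φ : A ≃ₗ[Res M] (G → Res M) :=
      (coeffLinearEquiv (Res M)).trans (Finsupp.linearEquivFunOnFinite (Res M) (Res M) G)
    let E : G → G → ℂ := fun x y => eC (x * y⁻¹)
    have hidem : ∀ x z, ∑ y, E x y * E y z = E x z := fun x z => by
      have h := congrFun (conv_blockCoeff_self (G := G) B) (x * z⁻¹)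
      rw [conv_apply] at h
      show _ = eC (x * z⁻¹)
      rw [heC, ← h]
      refine Fintype.sum_equiv ((Equiv.inv G).trans (Equiv.mulLeft x)) _ _ fun y => ?_
      simp only [Equiv.trans_apply, Equiv.inv_apply, Equiv.coe_mulLeft, E, heC]
      congr 2
      group
    have hE := finrank_range_red (fun x y => heI.2 (x * y⁻¹)) hidem
    have hconj : (Matrix.toLin' (Matrix.of fun x y => red M (E x y))).comp Φ.toLinearMap =
        Φ.toLinearMap.comp (LinearMap.mulLeft (Res M) e) := by
      refine LinearMap.ext fun z => funext fun x => ?_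
      simp only [LinearMap.comp_apply, Matrix.toLin'_apply, Matrix.mulVec, dotProduct,
        LinearMap.mulLeft_apply, LinearEquiv.coe_coe]
      show ∑ y, red M (E x y) * z.coeff y = (e * z).coeff x
      rw [coeff_mul_eq]
      refine Fintype.sum_equiv ((Equiv.inv G).trans (Equiv.mulLeft x)) _ _ fun y => ?_
      simp only [Equiv.trans_apply, Equiv.inv_apply, Equiv.coe_mulLeft, he_def, coeff_toAlg, E]
      congr 2
      group
    have hr : LinearMap.range (Matrix.toLin' (Matrix.of fun x y => red M (E x y))) =
        (LinearMap.range (LinearMap.mulLeft (Res M) e)).map Φ.toLinearMap := by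
      rw [← LinearMap.range_comp, ← hconj, LinearMap.range_comp_of_range_eq_top]
      exact LinearEquiv.range Φ
    rw [hr, LinearEquiv.finrank_map_eq] at hE
    rw [hE]
    simp only [mul_inv_cancel, Finset.sum_const, Finset.card_univ, nsmul_eq_mul, heC,
      blockCoeff, ← Nat.card_eq_fintype_card]
    rw [mul_inv_cancel_left₀ (Nat.cast_ne_zero.mpr Nat.card_pos.ne'), finsum_mem_eq_toFinset_sum,
      finsum_mem_eq_toFinset_sum, Nat.cast_sum]
    refine Finset.sum_congr rfl fun χ _ => ?_
    rw [irr_one_eq, Complex.conj_natCast, Nat.cast_pow]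
    ring
  have hsq := BlkChar.sum_sq_factorization hM hB
  rw [hn] at hsq
  set a := (Nat.card G).factorization p with ha_def
  have hda : blockDefect p B ≤ a := Nat.sub_le _ _
  obtain ⟨S'⟩ := (inferInstance : Nonempty (Sylow p G))
  have hdvd := card_dvd_finrank_mulRight (S' : Subgroup G) S'.2 f hff
  rw [Sylow.card_eq_multiplicity, ← ha_def, hdimP] at hdvd
  have hn0 : n ≠ 0 := by
    rintro rfl
    have h0 : Module.finrank (Res M) (LinearMap.range (LinearMap.mulLeft (Res M) e)) = 0 := hdimB
    rw [Submodule.finrank_eq_zero, LinearMap.range_eq_bot] at h0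
    exact he0 (by simpa [he] using LinearMap.congr_fun h0 e)
  have h2n : a ≤ (2 * n).factorization p :=
    (hp.pow_dvd_iff_le_factorization (by positivity)).mp hdvd
  rw [Nat.factorization_mul two_ne_zero hn0, Finsupp.add_apply] at h2n
  rw [Nat.factorization_mul two_ne_zero (pow_ne_zero _ hn0), Finsupp.add_apply,
    Nat.factorization_pow, Finsupp.smul_apply, smul_eq_mul] at hsq
  by_cases hp2 : p = 2
  · subst hp2
    rw [Nat.prime_two.factorization_self] at h2n hsq
    exact ⟨rfl, by omega⟩
  · rw [Nat.prime_two.factorization, Finsupp.single_eq_of_ne hp2] at h2n hsq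
    omega

end Cfsg.Agent.BlockAlg8
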