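import Cfsg.Agent.Lib.BlocksDefect.Kulshammer
import Mathlib.FieldTheory.IsAlgClosed.Basic
import Mathlib.LinearAlgebra.Matrix.NonsingularInverse
import Mathlib.LinearAlgebra.Trace
import Mathlib.LinearAlgebra.Matrix.ToLin

/-!
# The residue field of the local ring of algebraic integers

It is algebraically closed, linear independence lifts from it, and reduction preserves the rank
of an idempotent matrix.
-/

set_option autoImplicit false

namespace Cfsg.Agent.BlockAlg8

open BlocksCore BlocksDefect Polynomial

variable {M : Ideal AlgInt} [M.IsPrime]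

noncomputable instance resField : Field (Res M) := Ideal.Quotient.field _

theorem exists_algInt_red [M.IsMaximal] (x : Res M) : ∃ a : AlgInt, red M (a : ℂ) = x := by
  obtain ⟨⟨z, a, b, hb, rfl⟩, rfl⟩ := Ideal.Quotient.mk_surjective x
  have hmax : M.IsMaximal := inferInstance
  obtain ⟨c, m, hm, hcm⟩ := hmax.exists_inv hb
  refine ⟨a * c, ?_⟩
  have hac : MemLocalRing M ((a * c : AlgInt) : ℂ) := memLocalRing_of_mem (a * c).2
  rw [← red_coe ⟨_, a, b, hb, rfl⟩, red_eq_iff hac ⟨a, b, hb, rfl⟩]
  refine ⟨-(a * m), b, M.neg_mem (M.mul_mem_left _ hm), hb, ?_⟩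
  have hb0 : (b : ℂ) ≠ 0 := coe_ne_zero_of_notMem hb
  have h := congrArg (fun t : AlgInt => (t : ℂ)) hcm
  simp only [Subalgebra.coe_add, Subalgebra.coe_mul, Subalgebra.coe_one] at h
  push_cast
  field_simp
  linear_combination -(a : ℂ) * h

instance isAlgClosed_res [M.IsMaximal] : IsAlgClosed (Res M) := by
  refine IsAlgClosed.of_exists_root _ fun f hf hirr => ?_
  let φ : AlgInt →+* Res M := (Ideal.Quotient.mk (localIdeal M)).comp
    { toFun := fun a => ⟨(a : ℂ), memLocalRing_of_mem a.2⟩
      map_one' := rfl
      map_mul' := fun _ _ => rfl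
      map_zero' := rfl
      map_add' := fun _ _ => rfl }
  have hφ : Function.Surjective φ := fun x => by
    obtain ⟨a, ha⟩ := exists_algInt_red x
    exact ⟨a, by rw [← ha, red_of_mem (memLocalRing_of_mem a.2)]; rfl⟩
  obtain ⟨g, hg, hdeg, hgm⟩ := lifts_and_degree_eq_and_monic
    ((map_surjective φ hφ f : f ∈ Polynomial.lifts φ)) hf
  obtain ⟨z, hz⟩ := IsAlgClosed.exists_root (g.map (algebraMap AlgInt ℂ)) (by
    rw [hgm.degree_map, hdeg]
    exact (degree_pos_of_irreducible hirr).ne')
  have hzint : z ∈ AlgInt := by
    have h1 : IsIntegral AlgInt z := ⟨g, hgm, by rwa [IsRoot, eval_map] at hz⟩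
    exact mem_integralClosure_iff ℤ ℂ |>.mpr (isIntegral_trans (R := ℤ) z h1)
  refine ⟨φ ⟨z, hzint⟩, ?_⟩
  rw [← hg, eval_map_apply]
  have h0 : g.eval ⟨z, hzint⟩ = 0 := Subtype.ext (by
    rw [IsRoot, eval_map] at hz
    rw [show ((g.eval ⟨z, hzint⟩ : AlgInt) : ℂ) = algebraMap AlgInt ℂ (g.eval ⟨z, hzint⟩) from rfl,
      ← eval₂_at_apply]
    exact hz)
  rw [h0, map_zero]

/-- Vectors with linearly independent reductions are linearly independent. -/
theorem linearIndependent_of_red {ι X : Type*} [Finite ι] [Finite X] (v : ι → X → ℂ)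
    (hv : ∀ i x, MemLocalRing M (v i x))
    (h : LinearIndependent (Res M) fun i x => red M (v i x)) : LinearIndependent ℂ v := by
  classical
  have := Fintype.ofFinite ι
  have := Fintype.ofFinite X
  let V : Matrix X ι (localRing M) := Matrix.of fun x i => ⟨v i x, hv i x⟩
  have hcols : Function.Injective (V.map (Ideal.Quotient.mk (localIdeal M))).mulVec := by
    rw [Matrix.mulVec_injective_iff]
    have e : (V.map (Ideal.Quotient.mk (localIdeal M))).col = fun i x => red M (v i x) := by
      funext i x
      exact (red_of_mem (hv i x)).symm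
    rw [e]
    exact h
  obtain ⟨g, hg⟩ := LinearMap.exists_leftInverse_of_injective
    (V.map (Ideal.Quotient.mk (localIdeal M))).toLin' (LinearMap.ker_eq_bot.mpr hcols)
  obtain ⟨L, hL⟩ : ∃ L : Matrix ι X (Res M), L * V.map (Ideal.Quotient.mk (localIdeal M)) = 1 :=
    ⟨LinearMap.toMatrix' g, Matrix.toLin'.injective (by
      rw [Matrix.toLin'_mul, Matrix.toLin'_toMatrix', hg, Matrix.toLin'_one])⟩
  choose L' hL' using fun i x => Ideal.Quotient.mk_surjective (L i x)
  let U : Matrix ι ι (localRing M) := Matrix.of L' * V
  have hU : U.map (Ideal.Quotient.mk (localIdeal M)) = 1 := by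
    rw [← hL, Matrix.map_mul]
    congr 1
    ext i x
    exact hL' i x
  have hdet : ((localRing M).subtype.mapMatrix U).det ≠ 0 := by
    intro h0
    rw [← RingHom.map_det] at h0
    have h1 : U.det = 0 := Subtype.ext h0
    have h2 := congrArg Matrix.det hU
    rw [Matrix.det_one, ← RingHom.mapMatrix_apply, ← RingHom.map_det, h1, map_zero] at h2
    exact zero_ne_one h2
  rw [Fintype.linearIndependent_iff]
  intro c hc
  have hVc : ((localRing M).subtype.mapMatrix U).mulVec c = 0 := by
    have e : (localRing M).subtype.mapMatrix U =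
        (Matrix.of L').map (localRing M).subtype * V.map (localRing M).subtype := Matrix.map_mul
    have e2 : (V.map (localRing M).subtype).mulVec c = 0 := by
      funext x
      have := congrFun hc x
      simp only [Finset.sum_apply, Pi.smul_apply, smul_eq_mul] at this
      simpa [Matrix.mulVec, dotProduct, V, mul_comm] using this
    rw [e, ← Matrix.mulVec_mulVec, e2, Matrix.mulVec_zero]
  exact congrFun (Matrix.eq_zero_of_mulVec_eq_zero hdet hVc)

/-- Reductions of vectors in a subspace span at most its dimension. -/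
theorem finrank_span_red_le {X : Type*} [Finite X] {ι : Type*} (v : ι → X → ℂ)
    (hv : ∀ i x, MemLocalRing M (v i x)) (W : Submodule ℂ (X → ℂ)) (hW : ∀ i, v i ∈ W) :
    Module.finrank (Res M) (Submodule.span (Res M) (Set.range fun i x => red M (v i x))) ≤
      Module.finrank ℂ W := by
  classical
  have := Fintype.ofFinite X
  obtain ⟨κ, a, -, hspan, hli⟩ := exists_linearIndependent' (Res M) (fun i x => red M (v i x))
  have := hli.finite
  have := Fintype.ofFinite κ
  rw [← hspan, finrank_span_eq_card hli]
  have h := linearIndependent_of_red (v ∘ a) (fun i => hv _) hli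
  have h' : LinearIndependent ℂ fun k : κ => (⟨v (a k), hW _⟩ : W) :=
    LinearIndependent.of_comp W.subtype h
  exact h'.fintype_card_le_finrank

/-- Reduction preserves the rank of an idempotent matrix. -/
theorem finrank_range_red {X : Type*} [Fintype X] [DecidableEq X] {E : X → X → ℂ}
    (hint : ∀ x y, MemLocalRing M (E x y)) (hidem : ∀ x z, ∑ y, E x y * E y z = E x z) :
    (Module.finrank (Res M)
      (LinearMap.range (Matrix.toLin' (Matrix.of fun x y => red M (E x y)))) : ℂ) = ∑ x, E x x := by
  let P : Matrix X X (localRing M) := Matrix.of fun x y => ⟨E x y, hint x y⟩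
  have hP : P * P = P := by
    ext x z
    simp only [P, Matrix.mul_apply, Matrix.of_apply, AddSubmonoidClass.coe_finsetSum]
    exact hidem x z
  have key : ∀ Q : Matrix X X (localRing M), Q * Q = Q →
      Module.finrank (Res M) (LinearMap.range (Q.map (Ideal.Quotient.mk (localIdeal M))).toLin') ≤
        Module.finrank ℂ (LinearMap.range (Q.map (localRing M).subtype).toLin') ∧
      (Module.finrank ℂ (LinearMap.range (Q.map (localRing M).subtype).toLin') : ℂ) =
        (Q.map (localRing M).subtype).trace := by
    intro Q hQ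
    refine ⟨?_, ?_⟩
    · rw [Matrix.range_toLin']
      have e : (Q.map (Ideal.Quotient.mk (localIdeal M))).col =
          fun y x => red M ((Q x y : localRing M) : ℂ) := by
        funext y x
        exact (red_coe (Q x y)).symm
      rw [e]
      exact finrank_span_red_le (fun y x => ((Q x y : localRing M) : ℂ)) (fun y x => (Q x y).2)
        (LinearMap.range (Q.map (localRing M).subtype).toLin') (fun y =>
          ⟨Pi.single y 1, by
            funext x
            simp [Matrix.toLin'_apply, Matrix.col]⟩)
    · have hproj : LinearMap.IsProj (LinearMap.range (Q.map (localRing M).subtype).toLin')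
          (Q.map (localRing M).subtype).toLin' := by
        refine ⟨fun v => LinearMap.mem_range_self _ v, ?_⟩
        rintro _ ⟨v, rfl⟩
        rw [← Matrix.toLin'_mul_apply, ← Matrix.map_mul, hQ]
      rw [← hproj.trace, Matrix.trace_toLin'_eq]
  have hQ : (1 - P) * (1 - P) = 1 - P := by
    rw [sub_mul, one_mul, mul_sub, mul_one, hP, sub_self, sub_zero]
  obtain ⟨h1, h2⟩ := key P hP
  obtain ⟨h3, h4⟩ := key (1 - P) hQ
  set A := P.map (Ideal.Quotient.mk (localIdeal M))
  have hA : Matrix.of (fun x y => red M (E x y)) = A := by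
    ext x y
    exact red_coe (P x y)
  rw [hA, show ∑ x, E x x = (P.map (localRing M).subtype).trace from rfl, ← h2]
  congr 1
  set r := Module.finrank ℂ (LinearMap.range (P.map (localRing M).subtype).toLin')
  set r' := Module.finrank ℂ (LinearMap.range ((1 - P).map (localRing M).subtype).toLin')
  have hsum : r + r' = Fintype.card X := by
    have : ((r + r' : ℕ) : ℂ) = Fintype.card X := by
      push_cast
      rw [h2, h4, ← Matrix.trace_add, ← Matrix.map_add _ (map_add _), add_sub_cancel,
        Matrix.map_one _ (map_zero _) (map_one _), Matrix.trace_one]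
    exact_mod_cast this
  have hB : ((1 - P).map (Ideal.Quotient.mk (localIdeal M))).toLin' = LinearMap.id - A.toLin' := by
    rw [← RingHom.mapMatrix_apply, map_sub, map_one, map_sub, Matrix.toLin'_one]
    rfl
  rw [hB] at h3
  have hsup : LinearMap.range A.toLin' ⊔ LinearMap.range (LinearMap.id - A.toLin') = ⊤ := by
    rw [eq_top_iff]
    intro v _
    rw [Submodule.mem_sup]
    exact ⟨_, ⟨v, rfl⟩, _, ⟨v, rfl⟩, by simp⟩
  have h5 := Submodule.finrank_add_le_finrank_add_finrank (LinearMap.range A.toLin')
    (LinearMap.range (LinearMap.id - A.toLin'))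
  rw [hsup, finrank_top, Module.finrank_fintype_fun_eq_card] at h5
  exact le_antisymm h1 (Nat.le_of_add_le_add_right
    (hsum.le.trans (h5.trans (Nat.add_le_add_left h3 _))))

end Cfsg.Agent.BlockAlg8
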